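import Groth.Agent.Vancyc.H881.GalEven
import Groth.Agent.Vancyc.H686.NormalFormStd

/-!
# Assembly of the monodromy of the even-dimensional affine quadric

Inputs: the Galois action on the standard quadric is trivial (`hstd`), the involution acts as `-1` (`hτ`), and
`H^{2m}` of the standard quadric is `Z/N` (`hH`).
-/

set_option autoImplicit false
universe u
open CategoryTheory CategoryTheory.Limits AlgebraicGeometry MvPolynomial

namespace Groth.Agent.Vancyc.H881.Asm4003

open Groth.Agent.Vancyc.H685 Groth.Agent.Vancyc.H685.StdModel Groth.Agent.Vancyc.H694.StdT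
  Groth.Agent.Vancyc.H178.QuadFib Groth.Agent.Vancyc.H881.Bund Groth.Agent.Vancyc.H881.FibStd
  Groth.Agent.Vancyc.H881.GalEven Groth.Agent.Vancyc.H686.NormalFormStd

/-- The isomorphism of spectra defined by an isomorphism of algebras. -/
noncomputable def specIso {R A B : Type u} [CommRing R] [CommRing A] [CommRing B] [Algebra R A]
    [Algebra R B] (e : A ≃ₐ[R] B) : Spec (CommRingCat.of A) ≅ Spec (CommRingCat.of B) :=
  Scheme.Spec.mapIso (RingEquiv.toCommRingCatIso e.symm.toRingEquiv).op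

theorem specIso_comp {R A B : Type u} [CommRing R] [CommRing A] [CommRing B] [Algebra R A]
    [Algebra R B] (e : A ≃ₐ[R] B) :
    (specIso e).hom ≫ Spec.map (CommRingCat.ofHom (algebraMap R B)) =
      Spec.map (CommRingCat.ofHom (algebraMap R A)) := by
  change Spec.map _ ≫ Spec.map _ = Spec.map _
  rw [← Spec.map_comp]
  congr 1
  apply CommRingCat.hom_ext
  exact RingHom.ext fun x => e.symm.commutes x

section Iso

variable (R K Ω : Type u) [CommRing R] [IsDomain R] [IsLocalRing R] [Field K] [Algebra R K]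
  [IsFractionRing R K] [Field Ω] [Algebra K Ω] [Algebra R Ω] [IsScalarTower R K Ω]
  (m : ℕ) (b c : R) (α β : Ω) (h1 : α + β = - algebraMap R Ω b) (h2 : α * β = algebraMap R Ω c)
  (h3 : α ≠ β) (M : Type) [AddCommGroup M] (q : ℕ)

include K h1 h2 h3 in
/-- The cohomology of the even model is that of the standard quadric. -/
theorem nonempty_BH_model : Nonempty (BH (VanCyc.fib R (modelEven R m b c) Ω) M q ≃+
    BH (Spec (CommRingCat.of (stdRing Ω m))) M q) := by
  obtain ⟨Ψ, -, -, -⟩ := exists_iso R K Ω m b c α β h1 h2 h3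
  exact ⟨((bhIso M q (fibIso R m Ω)).trans (bhIso M q Ψ)).symm⟩

end Iso

variable (R K Ω : Type u) [CommRing R] [IsDomain R] [IsDiscreteValuationRing R]
    (hR : EtCoh.IsStrictlyHenselianLocalRing R) [Field K] [Algebra R K] [IsFractionRing R K] [Field Ω] [Algebra K Ω]
    [IsSepClosure K Ω] [Algebra R Ω] [IsScalarTower R K Ω]
    (h2 : IsUnit (2 : R)) (t : R) (ht : Irreducible t) (N : ℕ)
    (m : ℕ) (a : Fin (2 * m + 1) → Fin (2 * m + 1) → R) (ha : VanCyc.QuadNondeg a)
    (w : Rˣ) (v : ℕ) (σ : Ω ≃ₐ[K] Ω)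

include hR h2 ht ha in
theorem main
    (hstd : ∀ z : BH (VanCyc.fib R (stdStr R m) Ω) (ZMod N) (2 * m),
      bh (ZMod N) (VanCyc.galGeom (stdStr R m) σ) (2 * m) z = z)
    (hτ : ∀ z : BH (Spec (CommRingCat.of (stdRing Ω m))) (ZMod N) (2 * m),
      bh (ZMod N) (stdTau Ω m) (2 * m) z = -z)
    (hH : Nonempty (BH (Spec (CommRingCat.of (stdRing Ω m))) (ZMod N) (2 * m) ≃+ ZMod N))
    [PreservesFiniteLimits (EtCoh.pull (VanCyc.galGeom (Spec.map (CommRingCat.ofHom (algebraMap R (VanCyc.quadRing R a ((w : R) * t ^ v))))) σ))] :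
    Nonempty (EtCoh.H (VanCyc.fib R (Spec.map (CommRingCat.ofHom (algebraMap R (VanCyc.quadRing R a ((w : R) * t ^ v))))) Ω)
        ((EtCoh.pull (VanCyc.jA R (Spec.map (CommRingCat.ofHom (algebraMap R (VanCyc.quadRing R a ((w : R) * t ^ v))))) Ω)).obj (EtCoh.const _ (ZMod N))) (2 * m) ≃+ ZMod N) ∧
      VanCyc.galH (Spec.map (CommRingCat.ofHom (algebraMap R (VanCyc.quadRing R a ((w : R) * t ^ v))))) σ (EtCoh.const _ (ZMod N)) (2 * m) =
        (VanCyc.quadChar (algebraMap R K t) σ) ^ v • AddMonoidHom.id _ := by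
  obtain ⟨hH', hS⟩ := id hR
  set b : R := (w : R) * t ^ v with hb
  have hb0 : b ≠ 0 := mul_ne_zero w.ne_zero (pow_ne_zero _ ht.ne_zero)
  -- a square root
  obtain ⟨β, hβ0, hβ⟩ := exists_sq R K Ω h2 b hb0
  have h2Ω : (2 : Ω) ≠ 0 := by
    have := h2.map (algebraMap R Ω)
    rw [map_ofNat] at this
    exact this.ne_zero
  have e1 : β + -β = - algebraMap R Ω (0 : R) := by rw [map_zero, neg_zero, add_neg_cancel]
  have e2 : β * -β = algebraMap R Ω (-b) := by rw [map_neg, ← hβ]; ring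
  have e3 : β ≠ -β := by
    intro h
    have : (2 : Ω) * β = 0 := by linear_combination h
    exact (mul_ne_zero h2Ω hβ0) this
  -- the normal form
  obtain ⟨-, -, e, -⟩ := exists_quadRing_equiv_odd h2 m rfl a ha b
  have hε := specIso_comp e
  have hΘ := galGeom_fibIsoOf (Ω := Ω) _ (modelEven R m 0 (-b)) (specIso e) hε σ
  constructor
  · obtain ⟨e4⟩ := nonempty_BH_model R K Ω m 0 (-b) β (-β) e1 e2 e3 (ZMod N) (2 * m)
    obtain ⟨e5⟩ := hH
    exact ⟨(cb (ZMod N) (2 * m) _).trans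
      ((bhIso (ZMod N) (2 * m) (fibIsoOf _ (modelEven R m 0 (-b)) (specIso e) hε Ω)).symm.trans (e4.trans e5))⟩
  · apply galH_eq_smul
    rcases quadChar_pow R K Ω hR h2 t ht w v σ β hβ with ⟨h5, h6⟩ | ⟨h5, h6⟩
    · rw [h6]
      exact bh_transport (ZMod N) (2 * m) _ hΘ 1 (bh_model_fix R K Ω m 0 (-b) β (-β) e1 e2 e3 (ZMod N) (2 * m)
        σ hstd h5 (by rw [map_neg, h5]))
    · rw [h6]
      exact bh_transport (ZMod N) (2 * m) _ hΘ (-1) (bh_model_swap R K Ω m 0 (-b) β (-β) e1 e2 e3 (ZMod N) (2 * m)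
        σ hstd (bh_fibTau_eq_neg R m Ω (ZMod N) (2 * m) hτ) h5 (by rw [map_neg, h5, neg_neg]))

end Groth.Agent.Vancyc.H881.Asm4003
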