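import Groth.Agent.Lefpen.H370.CohCmp
import Groth.Agent.Etcore.HpullViaEq

/-!
# The cohomology of constant sheaves as a bundled group

* `BH X M q` : `H^q(X, M)` bundled (keeps the kernel away from the instances on `Ext`), `bh M g q` : the pull-back;
* `cb j M q : H^q(X, j^* M) ≃+ BH X M q`;
* `via_eq_smul`, `bh_eq_smul` : `HpullVia g j j` is multiplication by `e` iff `bh M g q` is.
-/

set_option autoImplicit false
universe u
open CategoryTheory CategoryTheory.Limits AlgebraicGeometry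

namespace Groth.Agent.Vancyc.H881.Bund

open Groth.Agent.Etcore.HC Groth.Agent.Etcore.EtInst Groth.Agent.Lefpen.H370.CohCmp
  Groth.Agent.Etcore.HpullCalc
open scoped Groth.Agent.Etcore.EtInst

/-- `H^q(X, M)` as a bundled group. -/
noncomputable def BH (X : Scheme.{u}) (M : Type) [AddCommGroup M] (q : ℕ) : AddCommGrpCat.{u + 1} :=
  AddCommGrpCat.of (HH X (EtCoh.const X M) q)

/-- The pull-back. -/
noncomputable def bh (M : Type) [AddCommGroup M] {X Y : Scheme.{u}} (g : X ⟶ Y) (q : ℕ) :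
    BH Y M q →+ BH X M q := HC M g q

variable (M : Type) [AddCommGroup M] (q : ℕ)

theorem bh_comp {X Y Z : Scheme.{u}} (g : X ⟶ Y) (h : Y ⟶ Z) (x : BH Z M q) :
    bh M (g ≫ h) q x = bh M g q (bh M h q x) := HC_comp M g h q x

theorem bh_bh {X Y Z : Scheme.{u}} (g : X ⟶ Y) (h : Y ⟶ Z) (k : X ⟶ Z) (w : g ≫ h = k) (x : BH Z M q) :
    bh M g q (bh M h q x) = bh M k q x := by rw [← w, bh_comp]

theorem bh_id {X : Scheme.{u}} (x : BH X M q) : bh M (𝟙 X) q x = x := HC_id M q x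

theorem bijective_bh_of_isIso {X Y : Scheme.{u}} (g : X ⟶ Y) [IsIso g] :
    Function.Bijective (bh M g q) :=
  (bijective_HC_iff M g q).2 (Groth.Agent.Etcore.HpullCalc.bijective_hp_of_isIso g _ q)

/-- The isomorphism defined by an isomorphism of schemes. -/
noncomputable def bhIso {X Y : Scheme.{u}} (e : X ≅ Y) : BH Y M q ≃+ BH X M q :=
  AddEquiv.ofBijective (bh M e.hom q) (bijective_bh_of_isIso M q e.hom)

theorem bh_eq_neg_iff {X : Scheme.{u}} (g : X ⟶ X) :
    (∀ x : BH X M q, bh M g q x = -x) ↔ ∀ x : HH X (EtCoh.const X M) q, HC M g q x = -x := Iff.rfl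

/-- `H^q(X, j^* M) = H^q(X, M)`. -/
noncomputable def cb {X Y : Scheme.{u}} (j : X ⟶ Y) :
    EtCoh.H X ((EtCoh.pull j).obj (EtCoh.const Y M)) q ≃+ BH X M q := cst j M q

/-- (slow in the kernel) -/
theorem cst_HpullVia {X Y : Scheme.{u}} (g : X ⟶ X) (j : X ⟶ Y) (w : g ≫ j = j)
    (i : PreservesFiniteLimits (EtCoh.pull g)) (x : HH X ((EtCoh.pull j).obj (EtCoh.const Y M)) q) :
    @Eq (HH X (EtCoh.const X M) q) (cst j M q (EtCore.HpullVia g j j w (EtCoh.const Y M) q x))
      (HC M g q (cst j M q x)) :=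
  (congrArg (cst j M q) (HpullVia_apply_eq_hpVia g j j w (EtCoh.const Y M) q x)).trans
    (cst_hpVia g j j w M q x)

theorem cb_via {X Y : Scheme.{u}} (g : X ⟶ X) (j : X ⟶ Y) (w : g ≫ j = j)
    (i : PreservesFiniteLimits (EtCoh.pull g))
    (x : EtCoh.H X ((EtCoh.pull j).obj (EtCoh.const Y M)) q) :
    cb M q j (EtCore.HpullVia g j j w (EtCoh.const Y M) q x) = bh M g q (cb M q j x) :=
  cst_HpullVia M q g j w i x

/-- `HpullVia` is multiplication by `e` if `bh` is. -/
theorem via_eq_smul {X Y : Scheme.{u}} (g : X ⟶ X) (j : X ⟶ Y) (w : g ≫ j = j)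
    (i : PreservesFiniteLimits (EtCoh.pull g)) (e : ℤ) (h : ∀ z : BH X M q, bh M g q z = e • z) :
    EtCore.HpullVia g j j w (EtCoh.const Y M) q = e • AddMonoidHom.id _ := by
  apply AddMonoidHom.ext
  intro x
  apply (cb M q j).injective
  rw [cb_via M q g j w i x, h, AddMonoidHom.smul_apply, AddMonoidHom.id_apply, map_zsmul]

/-- `bh` is multiplication by `e` if `HpullVia` is. -/
theorem bh_eq_smul {X Y : Scheme.{u}} (g : X ⟶ X) (j : X ⟶ Y) (w : g ≫ j = j)
    (i : PreservesFiniteLimits (EtCoh.pull g)) (e : ℤ)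
    (h : EtCore.HpullVia g j j w (EtCoh.const Y M) q = e • AddMonoidHom.id _) (z : BH X M q) :
    bh M g q z = e • z := by
  obtain ⟨x, rfl⟩ := (cb M q j).surjective z
  rw [← cb_via M q g j w i x, h, AddMonoidHom.smul_apply, AddMonoidHom.id_apply, map_zsmul]

/-- Transport along an isomorphism. -/
theorem bh_transport {P P' : Scheme.{u}} {g : P ⟶ P} {g' : P' ⟶ P'} (Θ : P ≅ P')
    (h : g ≫ Θ.hom = Θ.hom ≫ g') (e : ℤ) (hh : ∀ z : BH P' M q, bh M g' q z = e • z)
    (z : BH P M q) : bh M g q z = e • z := by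
  obtain ⟨z', rfl⟩ := (bijective_bh_of_isIso M q Θ.hom).2 z
  rw [← bh_comp, h, bh_comp, hh, map_zsmul]

end Groth.Agent.Vancyc.H881.Bund
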