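import Groth.Agent.Etrest.StrictLoc
import Mathlib.AlgebraicGeometry.Morphisms.OpenImmersion
import Mathlib.AlgebraicGeometry.Stalk

/-!
# Local rings of an affine chart as strict localizations

For an open immersion `j : Spec B ⟶ X` and a prime `P` of `B`, `locPt j P : Spec B_P ⟶ X`.  If `B_P` is
henselian with separably closed residue field, `locPt j P` is a strict localization.
-/

set_option autoImplicit false
universe u

open CategoryTheory CategoryTheory.Limits AlgebraicGeometry IsLocalRing
open Groth.Agent.Etrest.StrictLoc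

namespace Groth.Agent.Vancyc.H881.ChartLoc

variable {X : Scheme.{u}} {B : Type u} [CommRing B] (j : Spec (CommRingCat.of B) ⟶ X)
  (P : Ideal B) [hP : P.IsPrime]

/-- `Spec B_P ⟶ X`. -/
noncomputable def locPt : Spec (CommRingCat.of (Localization.AtPrime P)) ⟶ X :=
  spm (algebraMap B (Localization.AtPrime P)) ≫ j

lemma locPt_closedPoint : locPt j P (closedPoint (Localization.AtPrime P)) =
    j (⟨P, hP⟩ : PrimeSpectrum B) := by
  rw [locPt, Scheme.Hom.comp_apply]
  congr 1
  apply PrimeSpectrum.ext
  exact Localization.AtPrime.under_maximalIdeal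

lemma hom_ext_locPt [IsOpenImmersion j] {T : Type u} [CommRing T]
    {g h : Localization.AtPrime P →+* T} (e : spm g ≫ locPt j P = spm h ≫ locPt j P) : g = h := by
  unfold locPt at e
  rw [← Category.assoc, ← Category.assoc, cancel_mono, ← spm_comp, ← spm_comp, spm_inj] at e
  exact IsLocalization.ringHom_ext P.primeCompl e

/-- maps from local schemes centred at `j P` factor through `Spec B_P`. -/
theorem exists_factor [IsOpenImmersion j] {T : Type u} [CommRing T] [IsLocalRing T]
    (t : Spec (CommRingCat.of T) ⟶ X) (ht : t (closedPoint T) = j (⟨P, hP⟩ : PrimeSpectrum B)) :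
    ∃ φ : Localization.AtPrime P →+* T, IsLocalHom φ ∧ spm φ ≫ locPt j P = t := by
  have hr : Set.range t ⊆ Set.range j := by
    rintro _ ⟨z, rfl⟩
    have h1 : t z ⤳ t (closedPoint T) := (specializes_closedPoint (R := T) z).map t.continuous
    exact h1.mem_open j.opensRange.2 ⟨_, ht.symm⟩
  obtain ⟨g, hg⟩ : ∃ g : B →+* T, spm g ≫ j = t := by
    refine ⟨(Spec.preimage (IsOpenImmersion.lift j t hr)).hom, ?_⟩
    have : spm (Spec.preimage (IsOpenImmersion.lift j t hr)).hom = IsOpenImmersion.lift j t hr :=
      Spec.map_preimage _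
    rw [this]
    exact IsOpenImmersion.lift_fac _ _ _
  have h1 : (maximalIdeal T).comap g = P := by
    have h2 : j (spm g (closedPoint T)) = j (⟨P, hP⟩ : PrimeSpectrum B) := by
      rw [← Scheme.Hom.comp_apply, hg, ht]
    exact congrArg PrimeSpectrum.asIdeal (j.isOpenEmbedding.injective h2)
  have hu : ∀ y : P.primeCompl, IsUnit (g y) := by
    intro y
    by_contra h
    exact y.2 (h1 ▸ (mem_maximalIdeal _).2 h)
  let φ : Localization.AtPrime P →+* T := IsLocalization.lift (M := P.primeCompl) hu
  have hφ : φ.comp (algebraMap B (Localization.AtPrime P)) = g := IsLocalization.lift_comp hu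
  refine ⟨φ, ?_, ?_⟩
  · refine ⟨fun a ha => ?_⟩
    obtain ⟨b, s, rfl⟩ := IsLocalization.exists_mk'_eq P.primeCompl a
    rw [IsLocalization.AtPrime.isUnit_mk'_iff (Localization.AtPrime P) P]
    intro hb
    have h3 : g b ∈ maximalIdeal T := by
      rw [← h1] at hb
      exact hb
    apply (mem_maximalIdeal _).1 h3
    have h4 : φ (IsLocalization.mk' (Localization.AtPrime P) b s) * g s = g b := by
      rw [← hφ, RingHom.comp_apply, RingHom.comp_apply, ← map_mul, IsLocalization.mk'_spec]
    rw [← h4]
    exact ha.mul (hu s)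
  · rw [locPt, ← Category.assoc, ← spm_comp, hφ, hg]

/-- `Spec B_P ⟶ X` is a strict localization if `B_P` is strictly henselian. -/
theorem isStrictLoc_locPt [IsOpenImmersion j] (hens : HenselianLocalRing (Localization.AtPrime P))
    (hsep : IsSepClosed (ResidueField (Localization.AtPrime P))) : IsStrictLoc (locPt j P) where
  henselian := hens
  sepClosed := hsep
  sep := by
    have hpt : (resPt (Localization.AtPrime P) ≫ locPt j P)
        (closedPoint (ResidueField (Localization.AtPrime P))) = j (⟨P, hP⟩ : PrimeSpectrum B) := by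
      rw [Scheme.Hom.comp_apply, resPt_closedPoint, locPt_closedPoint]
    obtain ⟨x, hx⟩ : ∃ x : X, x = j (⟨P, hP⟩ : PrimeSpectrum B) := ⟨_, rfl⟩
    obtain ⟨i, hi⟩ := exists_residueField_hom (resPt (Localization.AtPrime P) ≫ locPt j P) x
      (hpt.trans hx.symm)
    refine ⟨x, i, hi, ?_⟩
    have hloc : IsLocalRing (X.presheaf.stalk x) := X.isLocalRing x
    obtain ⟨φ, hφ, hφ'⟩ := @exists_factor X B _ j P hP _ (X.presheaf.stalk x) _ hloc
      (X.fromSpecStalk x) (Scheme.fromSpecStalk_closedPoint.trans hx)
    let ρ : ResidueField (Localization.AtPrime P) →+* X.residueField x := ResidueField.map φ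
    have h0 : X.fromSpecResidueField x = spm ρ ≫ resPt (Localization.AtPrime P) ≫ locPt j P := by
      have h2 : resPt (X.presheaf.stalk x) ≫ spm φ =
        spm ρ ≫ resPt (Localization.AtPrime P) := resPt_spm φ
      have h3 : X.fromSpecResidueField x = resPt (X.presheaf.stalk x) ≫ X.fromSpecStalk x := rfl
      rw [h3, ← hφ', ← Category.assoc]
      exact (congrArg (fun q => q ≫ locPt j P) h2).trans (Category.assoc _ _ _)
    have h1 : ρ.comp i = RingHom.id _ := by
      rw [← spm_inj, ← cancel_mono (X.fromSpecResidueField x), spm_comp, Category.assoc]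
      refine (congrArg (fun q => spm ρ ≫ q) hi).trans ?_
      rw [← h0, spm_id, Category.id_comp]
    intro y
    have hsurj : i (ρ y) = y := by
      apply ρ.injective
      exact RingHom.congr_fun h1 _
    refine ⟨Polynomial.X - Polynomial.C (ρ y), Polynomial.separable_X_sub_C, ?_⟩
    rw [Polynomial.eval₂_sub, Polynomial.eval₂_X, Polynomial.eval₂_C]
    exact sub_eq_zero.2 hsurj.symm
  universal := by
    intro T _ _ t τ h
    have hpt : t (closedPoint T) = j (⟨P, hP⟩ : PrimeSpectrum B) := by
      have h1 := congrArg (fun q => q (closedPoint (ResidueField T))) h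
      simp only [Scheme.Hom.comp_apply, resPt_closedPoint] at h1
      rw [← h1, locPt_closedPoint]
    obtain ⟨φ, hφ, hφ'⟩ := exists_factor j P t hpt
    refine ⟨φ, ⟨hφ', ?_⟩, ?_⟩
    · intro a
      rw [← hφ', ← Category.assoc, ← Category.assoc, ← spm_comp, ← spm_comp] at h
      have h2 := hom_ext_locPt j P h
      exact (RingHom.congr_fun h2 a).symm
    · rintro g ⟨h1, -⟩
      apply hom_ext_locPt j P
      rw [h1, hφ']

end Groth.Agent.Vancyc.H881.ChartLoc
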