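import Groth.Agent.Ega4late.H526.SmoothQf
import Groth.Prelude.Def_VanCyc
import Mathlib.RingTheory.Etale.Field
import Mathlib.RingTheory.Localization.BaseChange
import Mathlib.RingTheory.TensorProduct.Free
import Mathlib.AlgebraicGeometry.Morphisms.Smooth
import Mathlib.AlgebraicGeometry.Morphisms.Etale
import Mathlib.AlgebraicGeometry.Pullbacks

/-!
# The generic fibre of a finite local ring of a scheme with smooth generic fibre

* `etale_tensor` : `K ⊗ B` smooth over `K` and `B_P` finite over `R` imply `K ⊗ B_P` étale over `K`.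
* `natCard_primeSpectrum` : an étale algebra over a separably closed field has `finrank` points.
* `smooth_chart` : smoothness of `K ⊗ B` from smoothness of the generic fibre of an open containing the chart.
-/

set_option autoImplicit false
universe u

open scoped TensorProduct
open CategoryTheory CategoryTheory.Limits AlgebraicGeometry IsLocalRing VanCyc

namespace Groth.Agent.Vancyc.H881.EtaleFib

section Alg

variable (R : Type u) [CommRing R] (B : Type u) [CommRing B] [Algebra R B]
  (K : Type u) [Field K] [Algebra R K]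

theorem etale_tensor (P : Ideal B) [P.IsPrime] [Algebra.FormallySmooth K (K ⊗[R] B)]
    [Module.Finite R (Localization.AtPrime P)] :
    Algebra.Etale K (K ⊗[R] (Localization.AtPrime P)) := by
  let A := Localization.AtPrime P
  let φ : K ⊗[R] B →ₐ[K] K ⊗[R] A :=
    Algebra.TensorProduct.map (AlgHom.id K K) (IsScalarTower.toAlgHom R B A)
  let _ : Algebra (K ⊗[R] B) (K ⊗[R] A) := φ.toRingHom.toAlgebra
  have hT : IsScalarTower K (K ⊗[R] B) (K ⊗[R] A) :=
    .of_algebraMap_eq fun x => (φ.commutes x).symm
  have hL : IsLocalization (P.primeCompl.map (Algebra.TensorProduct.includeRight (R := R) (A := K)))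
      (K ⊗[R] A) := by
    refine IsLocalization.tensorProduct_tensorProduct_right R K P.primeCompl A ?_
    ext b
    change φ (1 ⊗ₜ b) = 1 ⊗ₜ algebraMap B A b
    simp [φ]
  have h1 : Algebra.FormallyEtale (K ⊗[R] B) (K ⊗[R] A) := .of_isLocalization
    (P.primeCompl.map (Algebra.TensorProduct.includeRight (R := R) (A := K)))
  have h2 : Algebra.FormallySmooth K (K ⊗[R] A) := .comp K (K ⊗[R] B) _
  have h3 : Module.Finite K (K ⊗[R] A) := inferInstance
  have h4 : Algebra.FinitePresentation K (K ⊗[R] A) :=
    Algebra.FinitePresentation.of_finiteType.1 inferInstance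
  rw [← Algebra.etaleLocus_eq_univ_iff_etale]
  refine Set.eq_univ_of_forall fun q => ?_
  rw [Algebra.mem_etaleLocus_iff]
  have h5 : Algebra.QuasiFiniteAt K q.asIdeal :=
    Algebra.QuasiFinite.of_isLocalization (S := K ⊗[R] A) q.asIdeal.primeCompl
  exact Ega4late.H526.SmoothQf.isEtaleAt_of_isSmoothAt_of_quasiFiniteAt K (K ⊗[R] A) q.asIdeal

theorem natCard_primeSpectrum (Ω : Type u) [Field Ω] [IsSepClosed Ω] (E : Type u) [CommRing E]
    [Algebra Ω E] [Algebra.Etale Ω E] :
    Finite (PrimeSpectrum E) ∧ Nat.card (PrimeSpectrum E) = Module.finrank Ω E := by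
  have h1 : Module.Finite Ω E := Algebra.FormallyUnramified.finite_of_free Ω E
  have h2 : IsArtinianRing E := isArtinian_of_tower Ω inferInstance
  have h3 : Finite (PrimeSpectrum E) := inferInstance
  refine ⟨h3, ?_⟩
  rw [(Algebra.FormallyEtale.equivPiOfIsSepClosed Ω E).toLinearEquiv.finrank_eq]
  have := Fintype.ofFinite (PrimeSpectrum E)
  rw [Module.finrank_fintype_fun_eq_card, Nat.card_eq_fintype_card]

end Alg

section Geo

variable {R : Type u} [CommRing R] (K : Type u) [Field K] [Algebra R K]
  {X : Scheme.{u}} (f : X ⟶ Spec (CommRingCat.of R)) (B : Type u) [CommRing B] [Algebra R B]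
  (j : Spec (CommRingCat.of B) ⟶ X) [IsOpenImmersion j]
  (hj : j ≫ f = Spec.map (CommRingCat.ofHom (algebraMap R B)))
  (V : X.Opens) (hV : Smooth (pullback.snd (V.ι ≫ f) (VanCyc.toS R K))) (hjV : Set.range j ⊆ V)

include hj hV hjV in
theorem smooth_chart : Algebra.Smooth K (K ⊗[R] B) := by
  let j' : Spec (CommRingCat.of B) ⟶ V := IsOpenImmersion.lift V.ι j (by simpa using hjV)
  have hj' : j' ≫ V.ι = j := IsOpenImmersion.lift_fac _ _ _
  have : IsOpenImmersion j' := by
    have : IsOpenImmersion (j' ≫ V.ι) := by rw [hj']; infer_instance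
    exact IsOpenImmersion.of_comp j' V.ι
  have h0 : j' ≫ V.ι ≫ f = Spec.map (CommRingCat.ofHom (algebraMap R B)) := by
    rw [← Category.assoc, hj', hj]
  -- the base change of the chart
  have sq : IsPullback (pullback.snd (toS R K) (V.ι ≫ f)) (pullback.fst (toS R K) (V.ι ≫ f))
      (V.ι ≫ f) (toS R K) := (IsPullback.of_hasPullback _ _).flip
  have hsm : Smooth (pullback.fst (toS R K) (V.ι ≫ f)) := by
    have := (pullbackSymmetry_hom_comp_snd (toS R K) (V.ι ≫ f))
    rw [← this]
    infer_instance
  have sq2 : IsPullback (Spec.map (CommRingCat.ofHom (Algebra.TensorProduct.includeRight.toRingHom :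
      B →+* K ⊗[R] B))) (Spec.map (CommRingCat.ofHom (algebraMap K (K ⊗[R] B))))
      (Spec.map (CommRingCat.ofHom (algebraMap R B))) (toS R K) := by
    have := isPullback_SpecMap_of_isPushout _ _ _ _
      (CommRingCat.isPushout_tensorProduct R K B)
    exact this.flip
  rw [← h0] at sq2
  let l : Spec (CommRingCat.of (K ⊗[R] B)) ⟶ pullback (toS R K) (V.ι ≫ f) :=
    pullback.lift (Spec.map (CommRingCat.ofHom (algebraMap K (K ⊗[R] B))))
      (Spec.map (CommRingCat.ofHom (Algebra.TensorProduct.includeRight.toRingHom :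
      B →+* K ⊗[R] B)) ≫ j') (by rw [Category.assoc]; exact sq2.w.symm)
  have sq3 : IsPullback (Spec.map (CommRingCat.ofHom (Algebra.TensorProduct.includeRight.toRingHom :
      B →+* K ⊗[R] B))) l j' (pullback.snd (toS R K) (V.ι ≫ f)) := by
    refine IsPullback.of_bot (v₂₁ := pullback.fst (toS R K) (V.ι ≫ f)) (v₂₂ := V.ι ≫ f)
      (h₃₁ := toS R K) ?_ ?_ sq
    · rw [pullback.lift_fst]
      exact sq2
    · rw [pullback.lift_snd]
  have hl : IsOpenImmersion l := MorphismProperty.of_isPullback sq3 inferInstance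
  have h1 : Smooth (Spec.map (CommRingCat.ofHom (algebraMap K (K ⊗[R] B)))) := by
    have : l ≫ pullback.fst (toS R K) (V.ι ≫ f) =
      Spec.map (CommRingCat.ofHom (algebraMap K (K ⊗[R] B))) := pullback.lift_fst _ _ _
    rw [← this]
    infer_instance
  have h2 := (HasRingHomProperty.Spec_iff (P := @Smooth)).1 h1
  exact RingHom.smooth_algebraMap.1 h2

end Geo

end Groth.Agent.Vancyc.H881.EtaleFib
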