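import Groth.Agent.Vancyc.H881.StdOpens

/-!
# Base change of the standard even quadric

* `stdMap : stdRing R m →ₐ[R] stdRing Ω m`, `isPullback_std`, `fibIso : fib R (stdStr R m) Ω ≅ Spec (stdRing Ω m)`;
* `fibTau_fibIso`: the involution of the fibre is the involution of `Spec (stdRing Ω m)`;
* `HC_fibTau_eq_neg`: the involution acts as `-1` on `H^{n+1}`.
-/

set_option autoImplicit false
universe u
open CategoryTheory CategoryTheory.Limits AlgebraicGeometry MvPolynomial

namespace Groth.Agent.Vancyc.H881.FibStd

open Groth.Agent.Vancyc.H685 Groth.Agent.Vancyc.H685.StdModel Groth.Agent.Vancyc.H686.GeoR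
  Groth.Agent.Vancyc.H178.QuadFib Groth.Agent.Vancyc.H881.StdOpens Groth.Agent.Etcore.HC
  Groth.Agent.Etcore.EtInst Groth.Agent.Lefpen.H370.CohCmp
open scoped Groth.Agent.Etcore.EtInst

section Map

variable (R : Type u) [CommRing R] (R' : Type u) [CommRing R'] [Algebra R R'] (m : ℕ)

/-- The base change map of coordinate rings. -/
noncomputable def stdMap : stdRing R m →ₐ[R] stdRing R' m :=
  (std_lift (R := R) (sx R' m) (sy R' m) (ss R' m) (std_rel R' m)).choose

theorem stdMap_x (i : Fin m) : stdMap R R' m (sx R m i) = sx R' m i :=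
  (std_lift (R := R) (sx R' m) (sy R' m) (ss R' m) (std_rel R' m)).choose_spec.1 i

theorem stdMap_y (i : Fin m) : stdMap R R' m (sy R m i) = sy R' m i :=
  (std_lift (R := R) (sx R' m) (sy R' m) (ss R' m) (std_rel R' m)).choose_spec.2.1 i

theorem stdMap_s : stdMap R R' m (ss R m) = ss R' m :=
  (std_lift (R := R) (sx R' m) (sy R' m) (ss R' m) (std_rel R' m)).choose_spec.2.2

theorem isPullback_std :
    IsPullback (Spec.map (CommRingCat.ofHom (stdMap R R' m : stdRing R m →+* stdRing R' m)))
      (stdStr R' m) (stdStr R m) (Spec.map (CommRingCat.ofHom (algebraMap R R'))) := by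
  refine isPullback_of_univ _ _ _ _ ?_ ?_ ?_
  · ext r
    change stdMap R R' m (algebraMap R (stdRing R m) r) = algebraMap R' (stdRing R' m) (algebraMap R R' r)
    rw [AlgHom.commutes]
    rfl
  · intro T _ f g h
    let : Algebra R' T := g.toAlgebra
    let : Algebra R T := (f.comp (algebraMap R (stdRing R m))).toAlgebra
    have hrel : ∑ i, f (sx R m i) * f (sy R m i) = f (ss R m) * (1 - f (ss R m)) := by
      have := congrArg f (std_rel R m)
      simpa [map_sum, map_mul] using this
    obtain ⟨k, hx, hy, hs⟩ := std_lift (R := R') (m := m) (D := T) (fun i => f (sx R m i))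
      (fun i => f (sy R m i)) (f (ss R m)) hrel
    refine ⟨k, ?_, ?_⟩
    · let fR : stdRing R m →ₐ[R] T := { f with commutes' := fun r => rfl }
      let kR : stdRing R m →ₐ[R] T :=
        { (k : stdRing R' m →+* T).comp (stdMap R R' m : stdRing R m →+* stdRing R' m) with
          commutes' := fun r => by
            change k (stdMap R R' m (algebraMap R (stdRing R m) r)) = f (algebraMap R (stdRing R m) r)
            rw [AlgHom.commutes]
            have e1 : algebraMap R (stdRing R' m) r = algebraMap R' (stdRing R' m) (algebraMap R R' r) := rfl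
            rw [e1, AlgHom.commutes]
            exact (RingHom.congr_fun h r).symm }
      have h3 : kR = fR := by
        apply std_ext
        · intro i
          exact (congrArg k (stdMap_x R R' m i)).trans (hx i)
        · intro i
          exact (congrArg k (stdMap_y R R' m i)).trans (hy i)
        · exact (congrArg k (stdMap_s R R' m)).trans hs
      exact congrArg (fun l : stdRing R m →ₐ[R] T => (l : stdRing R m →+* T)) h3
    · ext r
      exact k.commutes r
  · intro T _ k k' h1 h2
    let : Algebra R' T := (k.comp (algebraMap R' (stdRing R' m))).toAlgebra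
    let kA : stdRing R' m →ₐ[R'] T := { k with commutes' := fun r => rfl }
    let kA' : stdRing R' m →ₐ[R'] T := { k' with commutes' := fun r => (RingHom.congr_fun h2 r).symm }
    have h3 : kA = kA' := by
      apply std_ext
      · intro i
        have := RingHom.congr_fun h1 (sx R m i)
        rw [RingHom.comp_apply, RingHom.comp_apply] at this
        have e : (stdMap R R' m : stdRing R m →+* stdRing R' m) (sx R m i) = sx R' m i := stdMap_x R R' m i
        rw [e] at this
        exact this
      · intro i
        have := RingHom.congr_fun h1 (sy R m i)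
        rw [RingHom.comp_apply, RingHom.comp_apply] at this
        have e : (stdMap R R' m : stdRing R m →+* stdRing R' m) (sy R m i) = sy R' m i := stdMap_y R R' m i
        rw [e] at this
        exact this
      · have := RingHom.congr_fun h1 (ss R m)
        rw [RingHom.comp_apply, RingHom.comp_apply] at this
        have e : (stdMap R R' m : stdRing R m →+* stdRing R' m) (ss R m) = ss R' m := stdMap_s R R' m
        rw [e] at this
        exact this
    exact congrArg (fun l : stdRing R' m →ₐ[R'] T => (l : stdRing R' m →+* T)) h3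

theorem stdMap_tau : (stdMap R R' m).comp (tauR R m) = ((tauR R' m).restrictScalars R).comp (stdMap R R' m) := by
  apply std_ext
  · intro i
    rw [AlgHom.comp_apply, tauR_x, stdMap_x]
    exact ((congrArg (tauR R' m) (stdMap_x R R' m i)).trans (tauR_x R' m i)).symm
  · intro i
    rw [AlgHom.comp_apply, tauR_y, stdMap_y]
    exact ((congrArg (tauR R' m) (stdMap_y R R' m i)).trans (tauR_y R' m i)).symm
  · rw [AlgHom.comp_apply, tauR_s, map_sub, map_one, stdMap_s]
    exact ((congrArg (tauR R' m) (stdMap_s R R' m)).trans (tauR_s R' m)).symm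

theorem stdTau_stdMap :
    stdTau R' m ≫ Spec.map (CommRingCat.ofHom (stdMap R R' m : stdRing R m →+* stdRing R' m)) =
      Spec.map (CommRingCat.ofHom (stdMap R R' m : stdRing R m →+* stdRing R' m)) ≫ stdTau R m := by
  have h := stdMap_tau R R' m
  rw [← Spec.map_comp, ← Spec.map_comp, ← CommRingCat.ofHom_comp, ← CommRingCat.ofHom_comp]
  congr 2
  exact (congrArg (fun l : stdRing R m →ₐ[R] stdRing R' m => (l : stdRing R m →+* stdRing R' m)) h).symm

end Map

section Fib

variable (R : Type u) [CommRing R] (m : ℕ) (Ω : Type u) [CommRing Ω] [Algebra R Ω]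

/-- The base change of the standard quadric. -/
noncomputable def fibIso : VanCyc.fib R (stdStr R m) Ω ≅ Spec (CommRingCat.of (stdRing Ω m)) :=
  (isPullback_std R Ω m).isoPullback.symm

theorem fibIso_map : (fibIso R m Ω).hom ≫
    Spec.map (CommRingCat.ofHom (stdMap R Ω m : stdRing R m →+* stdRing Ω m)) =
      VanCyc.jA R (stdStr R m) Ω := (isPullback_std R Ω m).isoPullback_inv_fst

theorem fibIso_str : (fibIso R m Ω).hom ≫ stdStr Ω m = VanCyc.fibStr R (stdStr R m) Ω :=
  (isPullback_std R Ω m).isoPullback_inv_snd

theorem fibTau_fibIso : fibTau R m Ω ≫ (fibIso R m Ω).hom = (fibIso R m Ω).hom ≫ stdTau Ω m := by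
  apply (isPullback_std R Ω m).hom_ext
  · rw [Category.assoc, Category.assoc, fibIso_map, stdTau_stdMap, ← Category.assoc (fibIso R m Ω).hom,
      fibIso_map, fibTau_fst]
  · rw [Category.assoc, Category.assoc, stdTau_stdStr, fibIso_str]
    exact fibTau_snd R m Ω

/-- The sign of the involution of the fibre. -/
theorem HC_fibTau_eq_neg (M : Type) [AddCommGroup M] (n : ℕ)
    (h : ∀ y : HH (Spec (CommRingCat.of (stdRing Ω m))) (EtCoh.const _ M) n, HC M (stdTau Ω m) n y = -y)
    (y : HH (VanCyc.fib R (stdStr R m) Ω) (EtCoh.const _ M) n) : HC M (fibTau R m Ω) n y = -y := by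
  obtain ⟨z, rfl⟩ := (bijective_HC (fibIso R m Ω) M n).2 y
  rw [← HC_comp, fibTau_fibIso, HC_comp, h, map_neg]

end Fib

end Groth.Agent.Vancyc.H881.FibStd
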