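import Groth.Agent.Vancyc.H881.FibStd
import Groth.Agent.Vancyc.H881.Bund

/-!
# The Galois action on the cohomology of the even model

`galH` for constant coefficients in terms of `bh`, transport along isomorphisms of geometric generic fibres, and the
action on the even model `x_0² + b x_0 + c + ∑ x_i x_{m+i} = 0`: `σ` acts as it acts on the standard quadric when it fixes
the roots `α`, `β` of `w² + b w + c`, and up to the involution when it exchanges them.
-/

set_option autoImplicit false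
universe u
open CategoryTheory CategoryTheory.Limits AlgebraicGeometry MvPolynomial

namespace Groth.Agent.Vancyc.H881.GalEven

open Groth.Agent.Vancyc.H685 Groth.Agent.Vancyc.H685.StdModel Groth.Agent.Vancyc.H694.StdT
  Groth.Agent.Vancyc.H178.QuadFib Groth.Agent.Vancyc.H881.Bund Groth.Agent.Vancyc.H881.FibStd

section Gal

variable {R K Ω : Type u} [CommRing R] [Field K] [Algebra R K] [Field Ω] [Algebra K Ω] [Algebra R Ω]
  [IsScalarTower R K Ω] {X X' : Scheme.{u}} (f : X ⟶ Spec (CommRingCat.of R))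
  (f' : X' ⟶ Spec (CommRingCat.of R)) (σ : Ω ≃ₐ[K] Ω) (M : Type) [AddCommGroup M] (q : ℕ)

/-- `galH` is the multiplication by `e` if the action on the cohomology of the constant sheaf is. -/
theorem galH_eq_smul (i : PreservesFiniteLimits (EtCoh.pull (VanCyc.galGeom f σ))) (e : ℤ)
    (h : ∀ z : BH (VanCyc.fib R f Ω) M q, bh M (VanCyc.galGeom f σ) q z = e • z) :
    VanCyc.galH f σ (EtCoh.const X M) q = e • AddMonoidHom.id _ :=
  via_eq_smul M q (VanCyc.galGeom f σ) (VanCyc.jA R f Ω) (VanCyc.galGeom_jA f σ) i e h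

/-- Conversely. -/
theorem bh_galGeom_eq_smul (i : PreservesFiniteLimits (EtCoh.pull (VanCyc.galGeom f σ))) (e : ℤ)
    (h : VanCyc.galH f σ (EtCoh.const X M) q = e • AddMonoidHom.id _)
    (z : BH (VanCyc.fib R f Ω) M q) : bh M (VanCyc.galGeom f σ) q z = e • z :=
  bh_eq_smul M q (VanCyc.galGeom f σ) (VanCyc.jA R f Ω) (VanCyc.galGeom_jA f σ) i e h z

/-- The isomorphism of fibres induced by an isomorphism over the base. -/
noncomputable def fibIsoOf (ε : X ≅ X') (hε : ε.hom ≫ f' = f) (Ω : Type u) [CommRing Ω] [Algebra R Ω] :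
    VanCyc.fib R f Ω ≅ VanCyc.fib R f' Ω :=
  asIso (pullback.map f (VanCyc.toS R Ω) f' (VanCyc.toS R Ω) ε.hom (𝟙 _) (𝟙 _)
    (by rw [Category.comp_id, hε]) (by simp))

theorem fibIsoOf_fst (ε : X ≅ X') (hε : ε.hom ≫ f' = f) :
    (fibIsoOf f f' ε hε Ω).hom ≫ VanCyc.jA R f' Ω = VanCyc.jA R f Ω ≫ ε.hom := by
  unfold fibIsoOf
  exact pullback.lift_fst _ _ _

theorem fibIsoOf_snd (ε : X ≅ X') (hε : ε.hom ≫ f' = f) :
    (fibIsoOf f f' ε hε Ω).hom ≫ VanCyc.fibStr R f' Ω = VanCyc.fibStr R f Ω := by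
  unfold fibIsoOf
  refine (pullback.lift_snd _ _ _).trans (Category.comp_id _)

theorem galGeom_snd (σ : Ω ≃ₐ[K] Ω) : VanCyc.galGeom f σ ≫ VanCyc.fibStr R f Ω =
    VanCyc.fibStr R f Ω ≫ Spec.map (CommRingCat.ofHom (σ : Ω →+* Ω)) := by
  unfold VanCyc.galGeom
  exact pullback.lift_snd _ _ _

theorem galGeom_fibIsoOf (ε : X ≅ X') (hε : ε.hom ≫ f' = f) (σ : Ω ≃ₐ[K] Ω) :
    VanCyc.galGeom f σ ≫ (fibIsoOf f f' ε hε Ω).hom =
      (fibIsoOf f f' ε hε Ω).hom ≫ VanCyc.galGeom f' σ := by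
  apply pullback.hom_ext
  · change (_ ≫ _) ≫ VanCyc.jA R f' Ω = (_ ≫ _) ≫ VanCyc.jA R f' Ω
    rw [Category.assoc, Category.assoc, fibIsoOf_fst, VanCyc.galGeom_jA, fibIsoOf_fst,
      ← Category.assoc, VanCyc.galGeom_jA]
  · change (_ ≫ _) ≫ VanCyc.fibStr R f' Ω = (_ ≫ _) ≫ VanCyc.fibStr R f' Ω
    rw [Category.assoc, Category.assoc, fibIsoOf_snd, galGeom_snd, galGeom_snd, ← Category.assoc,
      fibIsoOf_snd]

end Gal

section Even

variable (R K Ω : Type u) [CommRing R] [IsDomain R] [IsLocalRing R] [Field K] [Algebra R K]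
  [IsFractionRing R K] [Field Ω] [Algebra K Ω] [Algebra R Ω] [IsScalarTower R K Ω]
  (m : ℕ) (b c : R) (α β : Ω) (h1 : α + β = - algebraMap R Ω b) (h2 : α * β = algebraMap R Ω c)
  (h3 : α ≠ β) (M : Type) [AddCommGroup M] (q : ℕ) (σ : Ω ≃ₐ[K] Ω)
  (hstd : ∀ z : BH (VanCyc.fib R (stdStr R m) Ω) M q, bh M (VanCyc.galGeom (stdStr R m) σ) q z = z)

include h1 h2 h3 hstd in
/-- `σ` fixes the roots: it acts trivially. -/
theorem bh_model_fix (hα : σ α = α) (hβ : σ β = β) (z : BH (VanCyc.fib R (modelEven R m b c) Ω) M q) :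
    bh M (VanCyc.galGeom (modelEven R m b c) σ) q z = (1 : ℤ) • z := by
  obtain ⟨Ψ, -, hΨ, -⟩ := exists_iso R K Ω m b c α β h1 h2 h3
  exact bh_transport M q Ψ (hΨ σ hα hβ) 1 (fun z => by rw [hstd, one_smul]) z

include h1 h2 h3 hstd in
/-- `σ` exchanges the roots: it acts as the involution. -/
theorem bh_model_swap (hτ : ∀ z : BH (VanCyc.fib R (stdStr R m) Ω) M q,
      bh M (fibTau R m Ω) q z = -z) (hα : σ α = β) (hβ : σ β = α)
    (z : BH (VanCyc.fib R (modelEven R m b c) Ω) M q) :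
    bh M (VanCyc.galGeom (modelEven R m b c) σ) q z = (-1 : ℤ) • z := by
  obtain ⟨Ψ, -, -, hΨ⟩ := exists_iso R K Ω m b c α β h1 h2 h3
  exact bh_transport M q Ψ (hΨ σ hα hβ) (-1) (fun z => by
    rw [bh_comp, hstd, hτ, neg_smul, one_smul]) z

end Even

/-- The sign of the involution of the fibre. -/
theorem bh_fibTau_eq_neg (R : Type u) [CommRing R] (m : ℕ) (Ω : Type u) [CommRing Ω] [Algebra R Ω]
    (M : Type) [AddCommGroup M] (n : ℕ)
    (h : ∀ y : BH (Spec (CommRingCat.of (stdRing Ω m))) M n, bh M (stdTau Ω m) n y = -y)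
    (y : BH (VanCyc.fib R (stdStr R m) Ω) M n) : bh M (fibTau R m Ω) n y = -y := by
  have h1 := bh_transport M n (fibIso R m Ω) (fibTau_fibIso R m Ω) (-1) (fun z => by
    rw [h, neg_smul, one_smul]) y
  rwa [neg_smul, one_smul] at h1

end Groth.Agent.Vancyc.H881.GalEven
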