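import Groth.Agent.Vancyc.H881.QuadAlg
import Groth.Agent.Vancyc.H694.ChartPt
import Groth.Agent.Etrest.IntHens
import Groth.Agent.Ega4late.H526.SmoothQf
import Mathlib.RingTheory.Etale.Field
import Mathlib.RingTheory.LocalRing.Module
import Mathlib.RingTheory.QuasiFinite.Weakly
import Mathlib.RingTheory.LocalRing.Quotient

/-!
# The local ring at a zero-dimensional ordinary quadratic point over a henselian base

`finite_localization` : over a Noetherian henselian local ring `R` with separably closed residue field, a flat
algebra `B` of finite presentation and a maximal ideal `P` over `𝔪_R` whose local ring in the fibre is an ordinary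
quadratic point of dimension zero: `B_P` is a finite free `R`-algebra of rank two.
-/

set_option autoImplicit false
universe u

open scoped TensorProduct
open IsLocalRing VanCyc

namespace Groth.Agent.Vancyc.H881.LocalFin

section Fin

variable (R : Type u) [CommRing R] [IsLocalRing R] (B : Type u) [CommRing B] [Algebra R B]

theorem isLocalRing_fibQuot (A : Type u) [CommRing A] [Algebra R A] [IsLocalRing A]
    [IsLocalHom (algebraMap R A)] : IsLocalRing (fibQuot R A) := by
  have h1 : (maximalIdeal R).map (algebraMap R A) ≤ maximalIdeal A :=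
    ((local_hom_TFAE (algebraMap R A)).out 0 2).1 ‹_›
  have : Nontrivial (fibQuot R A) := Ideal.Quotient.nontrivial_iff.2 (fun h => by
    rw [h] at h1
    exact (maximalIdeal.isMaximal A).ne_top (top_le_iff.1 h1))
  exact IsLocalRing.of_surjective' (Ideal.Quotient.mk _) Ideal.Quotient.mk_surjective

lemma isLocalHom_localization (P : Ideal B) [P.IsPrime] (hP : (maximalIdeal R).map (algebraMap R B) ≤ P) :
    IsLocalHom (algebraMap R (Localization.AtPrime P)) := by
  have h : ((maximalIdeal R).map (algebraMap R (Localization.AtPrime P))) ≤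
      maximalIdeal (Localization.AtPrime P) := by
    rw [IsScalarTower.algebraMap_eq R B, ← Ideal.map_map, ← Localization.AtPrime.map_eq_maximalIdeal]
    exact Ideal.map_mono hP
  exact ((local_hom_TFAE (algebraMap R (Localization.AtPrime P))).out 2 0).1 h

/-- residue condition for the fibre ring. -/
lemma exists_pow_sub_mem_fib (P : Ideal B) [P.IsMaximal]
    (hins : ∀ y : B, ∃ (e : ℕ) (c : R),
      y ^ ringExpChar (ResidueField R) ^ e - algebraMap R B c ∈ P)
    (hloc : IsLocalRing (fibQuot R (Localization.AtPrime P)))
    (y : fibQuot R (Localization.AtPrime P)) : ∃ (e : ℕ) (c : ResidueField R),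
      y ^ ringExpChar (ResidueField R) ^ e - fibHom R (Localization.AtPrime P) c ∈
        maximalIdeal (fibQuot R (Localization.AtPrime P)) := by
  obtain ⟨y, rfl⟩ := Ideal.Quotient.mk_surjective y
  have hlh : IsLocalHom (Ideal.Quotient.mk
      ((maximalIdeal R).map (algebraMap R (Localization.AtPrime P)))) :=
    .of_surjective _ Ideal.Quotient.mk_surjective
  obtain ⟨b, hb⟩ : ∃ b : B, y - algebraMap B _ b ∈ maximalIdeal (Localization.AtPrime P) := by
    obtain ⟨b, s, rfl⟩ := IsLocalization.exists_mk'_eq P.primeCompl y
    obtain ⟨t, ht⟩ : ∃ t : B, (s : B) * t - 1 ∈ P := by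
      have := Ideal.Quotient.exists_inv (I := P) (a := Ideal.Quotient.mk P s)
        (fun h => s.2 (Ideal.Quotient.eq_zero_iff_mem.1 h))
      obtain ⟨t, ht⟩ := this
      obtain ⟨t, rfl⟩ := Ideal.Quotient.mk_surjective t
      refine ⟨t, ?_⟩
      rw [← Ideal.Quotient.eq_zero_iff_mem, map_sub, map_mul, ht, map_one, sub_self]
    refine ⟨b * t, ?_⟩
    have h1 : IsLocalization.mk' (Localization.AtPrime P) b s - algebraMap B _ (b * t) =
        -(IsLocalization.mk' (Localization.AtPrime P) b s) * algebraMap B _ ((s : B) * t - 1) := by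
      have h2 := IsLocalization.mk'_spec (Localization.AtPrime P) b s
      rw [map_sub, map_one, map_mul, map_mul, mul_sub, neg_mul, mul_one, ← mul_assoc, h2]
      ring
    rw [h1]
    refine Ideal.mul_mem_left _ _ ?_
    rw [← Localization.AtPrime.map_eq_maximalIdeal]
    exact Ideal.mem_map_of_mem _ ht
  obtain ⟨e, c, hc⟩ := hins b
  refine ⟨e, residue R c, ?_⟩
  have h3 : y ^ ringExpChar (ResidueField R) ^ e - algebraMap R _ c ∈
      maximalIdeal (Localization.AtPrime P) := by
    have h4 : y ^ ringExpChar (ResidueField R) ^ e - algebraMap R _ c =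
        (y ^ ringExpChar (ResidueField R) ^ e -
          (algebraMap B _ b) ^ ringExpChar (ResidueField R) ^ e) +
        algebraMap B _ (b ^ ringExpChar (ResidueField R) ^ e - algebraMap R B c) := by
      rw [map_sub, map_pow, ← IsScalarTower.algebraMap_apply]
      ring
    rw [h4]
    refine Ideal.add_mem _ ?_ ?_
    · exact Ideal.mem_of_dvd _ (sub_dvd_pow_sub_pow _ _ _) hb
    · rw [← Localization.AtPrime.map_eq_maximalIdeal]
      exact Ideal.mem_map_of_mem _ hc
  have h5 : Ideal.Quotient.mk ((maximalIdeal R).map (algebraMap R (Localization.AtPrime P)))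
      (y ^ ringExpChar (ResidueField R) ^ e - algebraMap R _ c) =
      (Ideal.Quotient.mk ((maximalIdeal R).map (algebraMap R (Localization.AtPrime P))) y) ^
        ringExpChar (ResidueField R) ^ e - fibHom R (Localization.AtPrime P) (residue R c) := by
    rw [map_sub, map_pow]
    rfl
  rw [← h5, mem_maximalIdeal, mem_nonunits_iff, isUnit_map_iff]
  exact h3

lemma finrank_fibQuot (A : Type u) [CommRing A] [Algebra R A] [Module.Free R A] [Module.Finite R A] :
    letI := (fibHom R A).toAlgebra
    Module.finrank (ResidueField R) (fibQuot R A) = Module.finrank R A := by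
  have h11 := IsLocalRing.finrank_quotient_map (R := R) (S := A)
  refine Eq.trans ?_ h11
  have h10 : (fibHom R A).toAlgebra = (Ideal.Quotient.algebraQuotientOfLEComap
      Ideal.le_comap_map : Algebra (R ⧸ maximalIdeal R)
        (A ⧸ (maximalIdeal R).map (algebraMap R A))) := by
    refine Algebra.algebra_ext _ _ fun c => ?_
    obtain ⟨r, rfl⟩ := residue_surjective c
    rfl
  rw [h10]
  rfl

end Fin

section Main

variable (R : Type u) [CommRing R] [HenselianLocalRing R] [IsNoetherianRing R]
  (B : Type u) [CommRing B] [Algebra R B] [Algebra.FinitePresentation R B] [Module.Flat R B]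

theorem finite_localization
    (P : Ideal B) [P.IsMaximal]
    (hP : (maximalIdeal R).map (algebraMap R B) ≤ P)
    (hins : ∀ y : B, ∃ (e : ℕ) (c : R),
      y ^ ringExpChar (ResidueField R) ^ e - algebraMap R B c ∈ P)
    (hq : IsOrdQuadPt (fibHom R (Localization.AtPrime P)) 0) :
    Module.Finite R (Localization.AtPrime P) ∧ Module.Free R (Localization.AtPrime P) ∧
      Module.finrank R (Localization.AtPrime P) = 2 := by
  let A := Localization.AtPrime P
  have hlh : IsLocalHom (algebraMap R A) := isLocalHom_localization R B P hP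
  have hloc : IsLocalRing (fibQuot R A) := isLocalRing_fibQuot R A
  let _ : Algebra (ResidueField R) (fibQuot R A) := (fibHom R A).toAlgebra
  have hT : IsScalarTower R (ResidueField R) (fibQuot R A) :=
    IsScalarTower.of_algebraMap_eq fun r => rfl
  have hess : Algebra.EssFiniteType R A := .comp R B A
  have hess1 : Algebra.EssFiniteType R (fibQuot R A) :=
    .of_surjective (Ideal.Quotient.mkₐ R _) Ideal.Quotient.mk_surjective
  have hess2 : Algebra.EssFiniteType (ResidueField R) (fibQuot R A) :=
    .of_comp R (ResidueField R) (fibQuot R A)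
  obtain ⟨h1, h2⟩ := QuadAlg.finrank_eq_two (fibHom R A) hess2
    (exists_pow_sub_mem_fib R B P hins hloc) hq
  have hunder : P.under R = maximalIdeal R := by
    refine ((maximalIdeal.isMaximal R).eq_of_le (Ideal.IsPrime.under R P).ne_top ?_).symm
    exact Ideal.map_le_iff_le_comap.1 hP
  have hlo : P.LiesOver (maximalIdeal R) := ⟨hunder.symm⟩
  have hk : Module.Finite R (ResidueField R) :=
    Module.Finite.of_surjective (Algebra.linearMap R (ResidueField R)) residue_surjective
  have h3 : Module.Finite R (fibQuot R A) := .trans (ResidueField R) _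
  have h4 : Algebra.WeaklyQuasiFiniteAt R P := by
    rw [Algebra.weaklyQuasiFiniteAt_iff, hunder]
    exact inferInstanceAs (Algebra.QuasiFinite R (fibQuot R A))
  have h5 : Algebra.IsIntegral R A := Etrest.IntHens.isIntegral_of_zariskisMainProperty R B P
    (.of_finiteType_of_weaklyQuasiFiniteAt P) A
  have h6 : Function.Surjective (algebraMap B A) := by
    intro z
    obtain ⟨b, s, rfl⟩ := IsLocalization.exists_mk'_eq P.primeCompl z
    obtain ⟨t, ht⟩ : ∃ t : B, algebraMap B A t * algebraMap B A s = 1 := by
      let S₀ : Subalgebra R A := (IsScalarTower.toAlgHom R B A).range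
      have h8 : (algebraMap S₀ A).IsIntegral := fun x =>
        (h5.isIntegral x).tower_top (A := S₀)
      have h9 : IsLocalHom (algebraMap S₀ A) := h8.isLocalHom Subtype.val_injective
      have h10 : IsUnit (algebraMap S₀ A ⟨algebraMap B A s, ⟨s, rfl⟩⟩) :=
        IsLocalization.map_units A s
      obtain ⟨⟨_, ⟨t, rfl⟩⟩, ht⟩ := (isUnit_of_map_unit _ _ h10).exists_left_inv
      exact ⟨t, congrArg Subtype.val ht⟩
    refine ⟨b * t, ?_⟩
    rw [map_mul, IsLocalization.eq_mk'_iff_mul_eq, mul_assoc, ht, mul_one]
  have h7 : Algebra.FiniteType R A := .of_surjective (IsScalarTower.toAlgHom R B A) h6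
  have h8 : Module.Finite R A := Algebra.IsIntegral.finite
  have h9 : Module.Free R A := Module.free_of_flat_of_isLocalRing
  refine ⟨h8, h9, ?_⟩
  rw [← finrank_fibQuot R A]
  exact h2

end Main

end Groth.Agent.Vancyc.H881.LocalFin
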