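import Groth.Agent.Vancyc.H881.LocalFin
import Groth.Agent.Vancyc.H881.EtaleFib
import Groth.Agent.Vancyc.H881.ChartLoc
import Groth.Agent.EtpbcB.OshHens
import Mathlib.FieldTheory.PurelyInseparable.Basic

/-!
# Strict localization at a zero-dimensional ordinary quadratic point

Under the hypotheses of S3995, for a geometric point `η` of `X` centred at the image of `x`: the étale local ring
`Osh η` is finite free of rank two over `R`, and `M = X_Ω ×_X Spec (Osh η)` is étale over `Spec Ω` with exactly two
points.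
-/

set_option autoImplicit false
universe u

open scoped TensorProduct
open CategoryTheory CategoryTheory.Limits AlgebraicGeometry IsLocalRing VanCyc
open Groth.Agent.Etrest.StrictLoc Groth.Agent.EtpbcB.StrictLoc

namespace Groth.Agent.Vancyc.H881.OshQuad

/-- A finite local algebra over a strictly henselian local ring is strictly henselian. -/
theorem strictlyHenselian_of_finite (R : Type u) [CommRing R] [HenselianLocalRing R]
    [IsSepClosed (ResidueField R)] (A : Type u) [CommRing A] [IsLocalRing A] [Algebra R A]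
    [IsLocalHom (algebraMap R A)] [Module.Finite R A] :
    HenselianLocalRing A ∧ IsSepClosed (ResidueField A) := by
  refine ⟨Etrest.IntHens.henselianLocalRing_of_isIntegral R A, ?_⟩
  have h1 : Algebra.IsIntegral (ResidueField R) (ResidueField A) := inferInstance
  exact Algebra.IsAlgebraic.isSepClosed (F := ResidueField R) (E := ResidueField A)

/-- The local structure at a zero-dimensional ordinary quadratic point. -/
theorem exists_localRing (R : Type u) [CommRing R] [HenselianLocalRing R] [IsNoetherianRing R]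
    [IsSepClosed (ResidueField R)] {X : Scheme.{u}} (f : X ⟶ Spec (CommRingCat.of R))
    [LocallyOfFiniteType f] [Flat f]
    (x : ↥(spFib R f)) (hxc : IsClosed ({x} : Set ↥(spFib R f)))
    (hq : IsOrdQuadPt (resHom (spStr R f) x) 0)
    (V : X.Opens) (hxV : (icl R f).base x ∈ V) :
    ∃ (A : Type u) (_ : CommRing A) (_ : IsLocalRing A) (_ : Algebra R A)
      (p : Spec (CommRingCat.of A) ⟶ X),
      IsStrictLoc p ∧ p ≫ f = Spec.map (CommRingCat.ofHom (algebraMap R A)) ∧
      p (closedPoint A) = (icl R f).base x ∧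
      (∀ (T : Type u) [CommRing T] [IsLocalRing T] (t : Spec (CommRingCat.of T) ⟶ X),
        t (closedPoint T) = (icl R f).base x → ∃ φ : A →+* T, IsLocalHom φ ∧ spm φ ≫ p = t) ∧
      Module.Finite R A ∧ Module.Free R A ∧ Module.finrank R A = 2 ∧
      ∀ (K : Type u) [Field K] [Algebra R K], Smooth (pullback.snd (V.ι ≫ f) (toS R K)) →
        Algebra.Etale K (K ⊗[R] A) := by
  obtain ⟨B, _, _, P, hP, j, hfp, hjo, hjf, hjV, hjx, hmP, hfl, hins, hquad⟩ :=
    H694.ChartPt.exists_chart R f x hxc V hxV
  obtain ⟨h1, h2, h3⟩ := LocalFin.finite_localization R B P hmP hins (hquad 0 hq)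
  have hlh := LocalFin.isLocalHom_localization R B P hmP
  obtain ⟨h4, h5⟩ := strictlyHenselian_of_finite R (Localization.AtPrime P)
  refine ⟨Localization.AtPrime P, inferInstance, inferInstance, inferInstance,
    ChartLoc.locPt j P, ChartLoc.isStrictLoc_locPt j P h4 h5, ?_, ?_, ?_, h1, h2, h3, ?_⟩
  · rw [ChartLoc.locPt, Category.assoc, hjf, ← Spec.map_comp, ← CommRingCat.ofHom_comp,
      ← IsScalarTower.algebraMap_eq]
  · rw [ChartLoc.locPt_closedPoint, hjx]
  · intro T _ _ t ht
    exact ChartLoc.exists_factor j P t (ht.trans hjx.symm)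
  · intro K _ _ hsm
    have h6 := EtaleFib.smooth_chart K f B j hjf V hsm hjV
    exact EtaleFib.etale_tensor R B K P

section Main

variable (R K Ω : Type u) [CommRing R] [IsLocalRing R] [IsNoetherianRing R]
    (hR : EtCoh.IsStrictlyHenselianLocalRing R) [Field K] [Algebra R K] [Field Ω]
    [Algebra K Ω] [IsSepClosed Ω] [Algebra R Ω] [IsScalarTower R K Ω]
    {X : Scheme.{u}} (f : X ⟶ Spec (CommRingCat.of R)) [LocallyOfFiniteType f] [Flat f]
    (x : ↥(spFib R f)) (hxc : IsClosed ({x} : Set ↥(spFib R f)))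
    (hq : IsOrdQuadPt (resHom (spStr R f) x) 0)
    (V : X.Opens) (hxV : (icl R f).base x ∈ V) (hV : Smooth (pullback.snd (V.ι ≫ f) (toS R K)))
    {Ω' : Type u} [Field Ω'] [IsSepClosed Ω']
    (η : Spec (CommRingCat.of Ω') ⟶ X) (hη : η (closedPoint Ω') = (icl R f).base x)

include hR hxc hq hxV hV hη

/-- The étale local ring is finite free of rank two, with étale generic fibre. -/
theorem osh : ∃ (_ : Algebra R (Osh η)), 
    toBase η ≫ f = Spec.map (CommRingCat.ofHom (algebraMap R (Osh η))) ∧
    Module.Finite R (Osh η) ∧ Module.Free R (Osh η) ∧ Module.finrank R (Osh η) = 2 ∧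
    Algebra.Etale K (K ⊗[R] (Osh η)) := by
  obtain ⟨hhens, hsep⟩ := hR
  obtain ⟨A, _, _, _, p, hp, hpf, hpx, hfac, h1, h2, h3, h4⟩ :=
    exists_localRing R f x hxc hq V hxV
  have hpt : toBase η (closedPoint (Osh η)) = (icl R f).base x := by
    have e1 := congrArg (fun q => q default) (pt_toBase η)
    rw [← pt_default η]
    refine (show toBase η (pt η default) = η default from e1).trans ?_
    rw [← hη]
    congr 1
    exact @Subsingleton.elim (PrimeSpectrum Ω') _ _ _
  have hloc : IsLocalRing (Osh η) := inferInstance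
  obtain ⟨φ, hφ, hφ'⟩ := @hfac (Osh η) _ hloc (toBase η) hpt
  have hbij : Function.Bijective φ := hp.bijective (EtpbcB.OshHens.isStrictLoc_toBase η) φ hφ'
  let _ : Algebra R (Osh η) := (φ.comp (algebraMap R A)).toAlgebra
  let e : A ≃ₐ[R] Osh η := AlgEquiv.ofBijective ⟨φ, fun r => rfl⟩ hbij
  refine ⟨inferInstance, ?_, Module.Finite.equiv e.toLinearEquiv, Module.Free.of_equiv e.toLinearEquiv,
    ?_, ?_⟩
  · rw [← hφ', Category.assoc, hpf]
    exact (spm_comp (algebraMap R A) φ).symm
  · rw [← e.toLinearEquiv.finrank_eq, h3]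
  · have := h4 K hV
    exact Algebra.Etale.of_equiv (Algebra.TensorProduct.congr AlgEquiv.refl e)

/-- The fibre of `X_Ω` over the strict localization consists of two points. -/
theorem etale_and_card :
    Etale (pullback.fst (jA R f Ω) (toBase η) ≫ fibStr R f Ω) ∧
      Nat.card ↥(pullback (jA R f Ω) (toBase η)) = 2 := by
  obtain ⟨_, h0, h1, h2, h3, h4⟩ := osh R K hR f x hxc hq V hxV hV η hη
  have sq1 : IsPullback (pullback.snd (jA R f Ω) (toBase η)) (pullback.fst (jA R f Ω) (toBase η))
      (toBase η) (jA R f Ω) := (IsPullback.of_hasPullback _ _).flip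
  have sq2 : IsPullback (jA R f Ω) (fibStr R f Ω) f (toS R Ω) := IsPullback.of_hasPullback _ _
  have sq3 := sq1.paste_vert sq2
  rw [h0] at sq3
  have sq4 : IsPullback (Spec.map (CommRingCat.ofHom (Algebra.TensorProduct.includeRight.toRingHom :
      Osh η →+* Ω ⊗[R] Osh η))) (Spec.map (CommRingCat.ofHom (algebraMap Ω (Ω ⊗[R] Osh η))))
      (Spec.map (CommRingCat.ofHom (algebraMap R (Osh η)))) (toS R Ω) := by
    have := isPullback_SpecMap_of_isPushout _ _ _ _
      (CommRingCat.isPushout_tensorProduct R Ω (Osh η))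
    exact this.flip
  have h5 : Algebra.Etale Ω (Ω ⊗[R] Osh η) :=
    Algebra.Etale.of_equiv (Algebra.TensorProduct.cancelBaseChange R K Ω Ω (Osh η))
  let e := sq3.isoIsPullback _ _ sq4
  have he : e.hom ≫ Spec.map (CommRingCat.ofHom (algebraMap Ω (Ω ⊗[R] Osh η))) =
      pullback.fst (jA R f Ω) (toBase η) ≫ fibStr R f Ω := sq3.isoIsPullback_hom_snd _ _ sq4
  constructor
  · rw [← he]
    have : Etale (Spec.map (CommRingCat.ofHom (algebraMap Ω (Ω ⊗[R] Osh η)))) :=
      (HasRingHomProperty.Spec_iff (P := @Etale)).2 (RingHom.etale_algebraMap.2 h5)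
    infer_instance
  · rw [Nat.card_congr e.hom.homeomorph.toEquiv]
    refine (EtaleFib.natCard_primeSpectrum Ω (Ω ⊗[R] Osh η)).2.trans ?_
    rw [Module.finrank_baseChange, h3]

end Main

end Groth.Agent.Vancyc.H881.OshQuad
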