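import Groth.Prelude.Def_QuadSing
import Mathlib.RingTheory.EssentialFiniteness
import Mathlib.RingTheory.MvPowerSeries.Inverse
import Mathlib.RingTheory.AdicCompletion.Noetherian
import Mathlib.LinearAlgebra.Dimension.Finite
import Mathlib.LinearAlgebra.Dimension.Constructions
import Mathlib.RingTheory.TensorProduct.Free
import Mathlib.RingTheory.Filtration
import Mathlib.RingTheory.Flat.Basic
import Mathlib.RingTheory.Localization.Submodule

/-!
# Zero-dimensional ordinary quadratic points have length two

`finrank_eq_two` : if `O` is a local ring essentially of finite type over a field `k`, with residue field purely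
inseparable over `k`, and `IsOrdQuadPt (algebraMap k O) 0`, then `O` is finite over `k` of dimension two.
-/

set_option autoImplicit false
universe u

open scoped TensorProduct
open IsLocalRing VanCyc

namespace Groth.Agent.Vancyc.H881.QuadAlg

section Series

variable {k : Type u} [Field k]

omit [Field k] in
lemma fin_ext {m n : Fin 1 →₀ ℕ} (h : m 0 = n 0) : m = n :=
  Finsupp.ext fun i => by rw [Subsingleton.elim i 0, h]

lemma span_eq_of_ordQuadSeries (f : MvPowerSeries (Fin 1) k) (hf : OrdQuadSeries f) :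
    Ideal.span {f} = Ideal.span {(MvPowerSeries.X 0 : MvPowerSeries (Fin 1) k) ^ 2} := by
  obtain ⟨⟨h0, h1⟩, h2⟩ := hf
  obtain ⟨g, hg⟩ : (MvPowerSeries.X 0 : MvPowerSeries (Fin 1) k) ^ 2 ∣ f := by
    rw [MvPowerSeries.X_pow_dvd_iff]
    intro m hm
    have hm' : m = 0 ∨ m = Finsupp.single 0 1 := by
      rcases (show m 0 = 0 ∨ m 0 = 1 by omega) with h | h
      · exact Or.inl (fin_ext h)
      · exact Or.inr (fin_ext (by rw [h]; simp))
    rcases hm' with rfl | rfl
    · exact h0
    · exact h1 0
  have hgc : MvPowerSeries.constantCoeff g = MvPowerSeries.coeff (Finsupp.single 0 2) f := by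
    rw [hg, MvPowerSeries.X_pow_eq, MvPowerSeries.coeff_monomial_mul]
    simp
  have hu : IsUnit g := by
    rw [MvPowerSeries.isUnit_iff_constantCoeff, hgc, isUnit_iff_ne_zero]
    intro h3
    have h4 := h2 (fun _ => 1) (by simp [quadEval, quadPart, h3]) (by
      ext i
      simp [polarMatrix, quadPart, Matrix.mulVec, dotProduct, Subsingleton.elim i 0, h3])
    exact one_ne_zero (congrFun h4 0)
  rw [hg]
  exact (Ideal.span_singleton_mul_right_unit hu _)

/-- the first two coefficients. -/
noncomputable def twoCoeff : MvPowerSeries (Fin 1) k →ₗ[k] k × k :=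
  (MvPowerSeries.coeff (0 : Fin 1 →₀ ℕ)).prod (MvPowerSeries.coeff (Finsupp.single (0 : Fin 1) 1))

lemma twoCoeff_surjective : Function.Surjective (twoCoeff (k := k)) := by
  rintro ⟨a, b⟩
  refine ⟨MvPowerSeries.monomial (0 : Fin 1 →₀ ℕ) a +
    MvPowerSeries.monomial (Finsupp.single (0 : Fin 1) 1) b, ?_⟩
  have h1 : (Finsupp.single (0 : Fin 1) 1 : Fin 1 →₀ ℕ) ≠ 0 := by
    intro h
    have := DFunLike.congr_fun h 0
    simp at this
  refine Prod.ext ?_ ?_
  · change MvPowerSeries.coeff 0 _ = a
    rw [map_add, MvPowerSeries.coeff_monomial, MvPowerSeries.coeff_monomial, if_pos rfl,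
      if_neg h1.symm, add_zero]
  · change MvPowerSeries.coeff _ _ = b
    rw [map_add, MvPowerSeries.coeff_monomial, MvPowerSeries.coeff_monomial, if_pos rfl,
      if_neg h1, zero_add]

lemma ker_twoCoeff : LinearMap.ker (twoCoeff (k := k)) =
    (Ideal.span {(MvPowerSeries.X 0 : MvPowerSeries (Fin 1) k) ^ 2}).restrictScalars k := by
  ext g
  rw [LinearMap.mem_ker, Submodule.restrictScalars_mem, Ideal.mem_span_singleton,
    MvPowerSeries.X_pow_dvd_iff]
  constructor
  · intro h m hm
    have h1 : MvPowerSeries.coeff (0 : Fin 1 →₀ ℕ) g = 0 := congrArg Prod.fst h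
    have h2 : MvPowerSeries.coeff (Finsupp.single (0 : Fin 1) 1) g = 0 := congrArg Prod.snd h
    rcases (show m 0 = 0 ∨ m 0 = 1 by omega) with h | h
    · rw [show m = 0 from fin_ext h, h1]
    · rw [show m = Finsupp.single 0 1 from fin_ext (by rw [h]; simp), h2]
  · intro h
    refine Prod.ext (h _ (by simp)) (h _ (by simp))

/-- The quotient `k[[x]]/(f)` for an ordinary quadratic series in one variable. -/
lemma finrank_quot (f : MvPowerSeries (Fin 1) k) (hf : OrdQuadSeries f) :
    Module.Finite k (MvPowerSeries (Fin 1) k ⧸ Ideal.span {f}) ∧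
      Module.finrank k (MvPowerSeries (Fin 1) k ⧸ Ideal.span {f}) = 2 := by
  rw [span_eq_of_ordQuadSeries f hf]
  let e : (MvPowerSeries (Fin 1) k ⧸
      Ideal.span {(MvPowerSeries.X 0 : MvPowerSeries (Fin 1) k) ^ 2}) ≃ₗ[k] k × k :=
    (Submodule.Quotient.restrictScalarsEquiv k _).symm.trans
      ((Submodule.quotEquivOfEq _ _ ker_twoCoeff.symm).trans
        (LinearMap.quotKerEquivOfSurjective _ twoCoeff_surjective))
  exact ⟨Module.Finite.equiv e.symm, by rw [e.finrank_eq]; simp⟩

lemma mul_mem_of_not_isUnit (f : MvPowerSeries (Fin 1) k) (hf : OrdQuadSeries f)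
    (a b : MvPowerSeries (Fin 1) k ⧸ Ideal.span {f}) (ha : ¬ IsUnit a) (hb : ¬ IsUnit b) :
    a * b = 0 := by
  have key : ∀ a : MvPowerSeries (Fin 1) k ⧸ Ideal.span {f}, ¬ IsUnit a →
      ∃ h : MvPowerSeries (Fin 1) k, a = Ideal.Quotient.mk _ (MvPowerSeries.X 0 * h) := by
    intro a ha
    obtain ⟨g, rfl⟩ := Ideal.Quotient.mk_surjective a
    have h1 : MvPowerSeries.constantCoeff g = 0 := by
      by_contra h
      exact ha ((MvPowerSeries.isUnit_iff_constantCoeff.2 (isUnit_iff_ne_zero.2 h)).map _)
    obtain ⟨h, hh⟩ : (MvPowerSeries.X 0 : MvPowerSeries (Fin 1) k) ∣ g := by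
      rw [MvPowerSeries.X_dvd_iff]
      intro m hm
      rw [show m = 0 from fin_ext hm]
      exact h1
    exact ⟨h, by rw [hh]⟩
  obtain ⟨g, rfl⟩ := key a ha
  obtain ⟨h, rfl⟩ := key b hb
  rw [← map_mul, Ideal.Quotient.eq_zero_iff_mem, span_eq_of_ordQuadSeries f hf,
    Ideal.mem_span_singleton]
  exact ⟨g * h, by ring⟩

end Series

section Local

variable (k : Type u) [Field k] (L : Type u) [CommRing L] [IsLocalRing L] [Algebra k L]

lemma not_isUnit_of (a : L) (ha : a ∈ maximalIdeal L) :
    ¬ IsUnit (algebraMap L (AdicCompletion (maximalIdeal L) L) a) := by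
  intro h
  have h1 := h.map (AdicCompletion.evalₐ (maximalIdeal L) 1)
  have h2 : AdicCompletion.evalₐ (maximalIdeal L) 1
      (algebraMap L (AdicCompletion (maximalIdeal L) L) a) =
      Ideal.Quotient.mk (maximalIdeal L ^ 1) a :=
    (AdicCompletion.evalₐ (maximalIdeal L) 1).commutes a
  rw [h2] at h1
  have h3 : Ideal.Quotient.mk (maximalIdeal L ^ 1) a = 0 := by
    rw [Ideal.Quotient.eq_zero_iff_mem, pow_one]
    exact ha
  rw [h3, isUnit_zero_iff] at h1
  have h4 : (1 : L) ∈ maximalIdeal L ^ 1 := by
    rw [← Ideal.Quotient.eq_zero_iff_mem, map_one]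
    exact h1.symm
  rw [pow_one] at h4
  exact (Ideal.ne_top_iff_one _).1 (maximalIdeal.isMaximal L).ne_top h4

/-- A Noetherian local `k`-algebra which is an ordinary quadratic singularity of dimension zero has length two. -/
theorem finrank_of_isOrdQuadSing [IsNoetherianRing L] (h : IsOrdQuadSing k L 0) :
    Module.Finite k L ∧ Module.finrank k L = 2 := by
  obtain ⟨f, hf, ⟨e⟩⟩ := h
  have hinj : Function.Injective (algebraMap L (AdicCompletion (maximalIdeal L) L)) := by
    have hH : IsHausdorff (maximalIdeal L) L := inferInstance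
    exact (AdicCompletion.of_injective_iff (I := maximalIdeal L) (M := L)).2 hH
  have hsq : maximalIdeal L ^ 2 = ⊥ := by
    rw [eq_bot_iff, sq, Ideal.mul_le]
    intro a ha b hb
    rw [Ideal.mem_bot]
    apply hinj
    apply e.injective
    rw [map_mul, map_mul, map_zero, map_zero]
    apply mul_mem_of_not_isUnit f hf
    · intro h
      refine not_isUnit_of L a ha ?_
      have := h.map e.symm
      simpa using this
    · intro h
      refine not_isUnit_of L b hb ?_
      have := h.map e.symm
      simpa using this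
  have hsurj : Function.Surjective (algebraMap L (AdicCompletion (maximalIdeal L) L)) := by
    have hp : IsPrecomplete (maximalIdeal L) L := by
      refine ⟨fun f hf => ⟨f 2, fun n => ?_⟩⟩
      rcases le_total n 2 with h | h
      · exact hf h
      · have h1 := hf h
        rw [hsq, Submodule.bot_smul, SModEq.bot] at h1
        rw [h1]
    exact AdicCompletion.of_surjective_iff.2 hp
  let e1 : L ≃ₐ[k] AdicCompletion (maximalIdeal L) L :=
    AlgEquiv.ofBijective (IsScalarTower.toAlgHom k L _) ⟨hinj, hsurj⟩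
  obtain ⟨h1, h2⟩ := finrank_quot f hf
  refine ⟨Module.Finite.equiv (e1.trans e).symm.toLinearEquiv, ?_⟩
  rw [(e1.trans e).toLinearEquiv.finrank_eq, h2]

end Local

section Base

variable {k : Type u} [Field k] {O : Type u} [CommRing O] [IsLocalRing O] [Algebra k O]

lemma includeRight_mem (M : Ideal (AlgebraicClosure k ⊗[k] O)) (hM : M.IsMaximal) (y : O)
    (hy : y ∈ maximalIdeal O) : (1 : AlgebraicClosure k) ⊗ₜ[k] y ∈ M := by
  let e : (O ⊗[k] AlgebraicClosure k) ≃+* (AlgebraicClosure k ⊗[k] O) :=
    (Algebra.TensorProduct.comm k O (AlgebraicClosure k)).toRingEquiv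
  have h1 : (M.comap (e : (O ⊗[k] AlgebraicClosure k) →+* (AlgebraicClosure k ⊗[k] O))).IsMaximal :=
    Ideal.comap_isMaximal_of_surjective _ e.surjective
  have h2 := Ideal.isMaximal_comap_of_isIntegral_of_isMaximal (R := O)
    (M.comap (e : (O ⊗[k] AlgebraicClosure k) →+* (AlgebraicClosure k ⊗[k] O)))
  have h3 := IsLocalRing.eq_maximalIdeal h2
  rw [← h3] at hy
  exact hy

/-- `k̄ ⊗ O` is local if the residue field of `O` is purely inseparable over `k`. -/
theorem isLocalRing_tensor (hins : ∀ y : O, ∃ (e : ℕ) (c : k),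
    y ^ ringExpChar k ^ e - algebraMap k O c ∈ maximalIdeal O) :
    IsLocalRing (AlgebraicClosure k ⊗[k] O) := by
  have hT : Nontrivial (AlgebraicClosure k ⊗[k] O) := by
    have : Function.Injective (Algebra.TensorProduct.includeRight :
      O →ₐ[k] AlgebraicClosure k ⊗[k] O) :=
      Algebra.TensorProduct.includeRight_injective (algebraMap k _).injective
    exact this.nontrivial
  refine IsLocalRing.of_unique_max_ideal ?_
  obtain ⟨M, hM⟩ := Ideal.exists_maximal (AlgebraicClosure k ⊗[k] O)
  refine ⟨M, hM, fun M' hM' => ?_⟩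
  have hE : ExpChar k (ringExpChar k) := inferInstance
  have hE' : ExpChar (AlgebraicClosure k) (ringExpChar k) :=
    expChar_of_injective_algebraMap (algebraMap k (AlgebraicClosure k)).injective _
  have hE'' : ExpChar (AlgebraicClosure k ⊗[k] O) (ringExpChar k) :=
    expChar_of_injective_algebraMap
      (algebraMap (AlgebraicClosure k) (AlgebraicClosure k ⊗[k] O)).injective _
  have key : ∀ t : AlgebraicClosure k ⊗[k] O, ∃ c : AlgebraicClosure k,
      t - algebraMap (AlgebraicClosure k) _ c ∈ M ∧
      t - algebraMap (AlgebraicClosure k) _ c ∈ M' := by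
    intro t
    induction t using TensorProduct.induction_on with
    | zero => exact ⟨0, by simp, by simp⟩
    | add a b ha hb =>
      obtain ⟨c, h1, h2⟩ := ha
      obtain ⟨d, h3, h4⟩ := hb
      refine ⟨c + d, ?_, ?_⟩
      · rw [map_add, add_sub_add_comm]
        exact M.add_mem h1 h3
      · rw [map_add, add_sub_add_comm]
        exact M'.add_mem h2 h4
    | tmul a y =>
      obtain ⟨e, c, hc⟩ := hins y
      obtain ⟨γ, hγ⟩ : ∃ γ : AlgebraicClosure k, γ ^ ringExpChar k ^ e = algebraMap k _ c :=
        IsAlgClosed.exists_pow_nat_eq _ (pow_pos (expChar_pos k _) _)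
      have h1 : ((1 : AlgebraicClosure k) ⊗ₜ[k] y - algebraMap (AlgebraicClosure k) _ γ) ^
          ringExpChar k ^ e = (1 : AlgebraicClosure k) ⊗ₜ[k]
            (y ^ ringExpChar k ^ e - algebraMap k O c) := by
        rw [sub_pow_expChar_pow, TensorProduct.tmul_sub, ← map_pow, hγ,
          Algebra.TensorProduct.tmul_pow, one_pow]
        congr 1
        rw [Algebra.TensorProduct.algebraMap_apply, Algebra.algebraMap_self, RingHom.id_apply,
          Algebra.algebraMap_eq_smul_one, Algebra.algebraMap_eq_smul_one,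
          TensorProduct.smul_tmul]
      have h2 : ∀ N : Ideal (AlgebraicClosure k ⊗[k] O), N.IsMaximal →
          (1 : AlgebraicClosure k) ⊗ₜ[k] y - algebraMap (AlgebraicClosure k) _ γ ∈ N := by
        intro N hN
        refine hN.isPrime.mem_of_pow_mem (ringExpChar k ^ e) ?_
        rw [h1]
        exact includeRight_mem N hN _ hc
      have h3 : a ⊗ₜ[k] y - algebraMap (AlgebraicClosure k) (AlgebraicClosure k ⊗[k] O) (a * γ) =
          algebraMap (AlgebraicClosure k) _ a *
            ((1 : AlgebraicClosure k) ⊗ₜ[k] y - algebraMap (AlgebraicClosure k) _ γ) := by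
        rw [mul_sub, map_mul]
        congr 1
        simp [Algebra.TensorProduct.algebraMap_apply]
      refine ⟨a * γ, ?_, ?_⟩
      · rw [h3]
        exact M.mul_mem_left _ (h2 M hM)
      · rw [h3]
        exact M'.mul_mem_left _ (h2 M' hM')
  refine hM'.eq_of_le hM.ne_top fun t ht => ?_
  obtain ⟨c, h1, h2⟩ := key t
  have h3 : algebraMap (AlgebraicClosure k) (AlgebraicClosure k ⊗[k] O) c ∈ M' := by
    have := M'.sub_mem ht h2
    rwa [sub_sub_cancel] at this
  have h4 : c = 0 := by
    by_contra h
    exact hM'.ne_top (Ideal.eq_top_of_isUnit_mem _ h3 ((isUnit_iff_ne_zero.2 h).map _))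
  rw [h4, map_zero, sub_zero] at h1
  exact h1

/-- A local ring essentially of finite type over `k` with purely inseparable residue field which is an ordinary
quadratic point of dimension zero has length two over `k`. -/
theorem finrank_eq_two {k : Type u} [Field k] {O : Type u} [CommRing O] [IsLocalRing O] (φ : k →+* O)
    (hft : letI := φ.toAlgebra; Algebra.EssFiniteType k O)
    (hins : ∀ y : O, ∃ (e : ℕ) (c : k), y ^ ringExpChar k ^ e - φ c ∈ maximalIdeal O)
    (hq : IsOrdQuadPt φ 0) :
    letI := φ.toAlgebra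
    Module.Finite k O ∧ Module.finrank k O = 2 := by
  let _ : Algebra k O := φ.toAlgebra
  have hloc : IsLocalRing (AlgebraicClosure k ⊗[k] O) := isLocalRing_tensor hins
  have h1 := hq (maximalIdeal (AlgebraicClosure k ⊗[k] O))
  have hN : IsNoetherianRing (AlgebraicClosure k ⊗[k] O) :=
    Algebra.EssFiniteType.isNoetherianRing (AlgebraicClosure k) _
  have hN' : IsNoetherianRing (Localization.AtPrime (maximalIdeal (AlgebraicClosure k ⊗[k] O))) :=
    IsLocalization.isNoetherianRing (maximalIdeal (AlgebraicClosure k ⊗[k] O)).primeCompl _ hN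
  obtain ⟨h2, h3⟩ := finrank_of_isOrdQuadSing (AlgebraicClosure k) _ h1
  let e : (AlgebraicClosure k ⊗[k] O) ≃ₐ[AlgebraicClosure k ⊗[k] O]
      (Localization.AtPrime (maximalIdeal (AlgebraicClosure k ⊗[k] O))) :=
    IsLocalization.atUnits _ (maximalIdeal (AlgebraicClosure k ⊗[k] O)).primeCompl (fun x hx => by
      by_contra h
      exact hx ((mem_maximalIdeal x).2 h))
  let e' := (e.restrictScalars (AlgebraicClosure k)).toLinearEquiv
  have h4 : Module.Finite (AlgebraicClosure k) (AlgebraicClosure k ⊗[k] O) :=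
    Module.Finite.equiv e'.symm
  have h5 : Module.finrank (AlgebraicClosure k) (AlgebraicClosure k ⊗[k] O) = 2 := by
    rw [e'.finrank_eq, h3]
  have h6 : Module.finrank k O = 2 := by
    rw [Module.finrank_baseChange] at h5
    exact h5
  exact ⟨Module.finite_of_finrank_pos (by rw [h6]; norm_num), h6⟩

end Base

end Groth.Agent.Vancyc.H881.QuadAlg
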