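import Groth.Agent.Vancyc.H881.SwapHC
import Groth.Agent.Vancyc.H686.GeoR
import Groth.Agent.Vancyc.H178.QuadFib

/-!
# The open cover of the standard even quadric and the involution `s ↦ 1 - s`

`Y = Spec A[x, y, s]/(∑ x_i y_i - s (1 - s))`, `V` = part above `A^m ∖ 0`, `U₀ = D(s) ∪ V`, `U₁ = D(1 - s) ∪ V`:
`U₀ ∪ U₁ = Y`, `U₀ ∩ U₁ = V`, and the involution `τ` exchanges `U₀` and `U₁`.

`HC_tau_eq_neg`: `τ` acts as `-1` on `H^{n+1}(Y, M)` as soon as `H^{n+1}(U_i, M) = 0` and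
`H^n(A^m ∖ 0, M) → H^n(V, M)` is surjective.
-/

set_option autoImplicit false
universe u
open CategoryTheory CategoryTheory.Limits AlgebraicGeometry MvPolynomial

namespace Groth.Agent.Vancyc.H881.StdOpens

open Groth.Agent.Vancyc.H685 Groth.Agent.Vancyc.H685.StdModel Groth.Agent.Vancyc.H686.GeoR
  Groth.Agent.Vancyc.H881.SwapHC Groth.Agent.Etcore.HC Groth.Agent.Etcore.EtInst
open scoped Groth.Agent.Etcore.EtInst

variable (A : Type u) [CommRing A] (m : ℕ)

/-- The coordinate `s`. -/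
noncomputable abbrev sc : stdRing A m := QuadAlg.s (MvPolynomial (Fin m) A) (fun i : Fin m => X i)

/-- The part above punctured affine space. -/
noncomputable abbrev V : (Spec (CommRingCat.of (stdRing A m))).Opens := stdProj A m ⁻¹ᵁ punct m A

/-- `D(s) ∪ V` -/
noncomputable abbrev U₀ : (Spec (CommRingCat.of (stdRing A m))).Opens := bo (sc A m) ⊔ V A m

/-- `D(1 - s) ∪ V` -/
noncomputable abbrev U₁ : (Spec (CommRingCat.of (stdRing A m))).Opens := bo (1 - sc A m) ⊔ V A m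

theorem mem_V_iff (x : Spec (CommRingCat.of (stdRing A m))) :
    x ∈ V A m ↔ ∃ i : Fin m, algebraMap (MvPolynomial (Fin m) A) (stdRing A m) (X i) ∉ x.asIdeal :=
  mem_punct m A (stdProj A m x)

theorem mem_V_of (x : Spec (CommRingCat.of (stdRing A m))) (h0 : sc A m ∉ x.asIdeal)
    (h1 : 1 - sc A m ∉ x.asIdeal) : x ∈ V A m := by
  by_contra hn
  rw [mem_V_iff] at hn
  push Not at hn
  have h2 := QuadAlg.relation (MvPolynomial (Fin m) A) (fun i : Fin m => X i)
  have h3 : sc A m * (1 - sc A m) ∈ x.asIdeal := by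
    rw [← h2]
    exact Ideal.sum_mem _ fun i _ => Ideal.mul_mem_right _ _ (hn i)
  exact (x.isPrime.mem_or_mem h3).elim h0 h1

theorem coe_inter : (V A m : Set (Spec (CommRingCat.of (stdRing A m)))) = (U₀ A m : Set _) ∩ (U₁ A m : Set _) := by
  apply Set.Subset.antisymm
  · intro x hx
    exact ⟨Or.inr hx, Or.inr hx⟩
  · rintro x ⟨h0 | h0, h1 | h1⟩
    · exact mem_V_of A m x h0 h1
    · exact h1
    · exact h0
    · exact h0

theorem coe_union : (U₀ A m : Set (Spec (CommRingCat.of (stdRing A m)))) ∪ (U₁ A m : Set _) = Set.univ := by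
  rw [Set.eq_univ_iff_forall]
  intro x
  by_cases h : sc A m ∈ x.asIdeal
  · refine Or.inr (Or.inl ?_)
    intro h1
    apply x.isPrime.ne_top
    rw [Ideal.eq_top_iff_one]
    have := Ideal.add_mem _ h1 h
    rwa [sub_add_cancel] at this
  · exact Or.inl (Or.inl h)

theorem tau_mem_bo (x : Spec (CommRingCat.of (stdRing A m))) (r : stdRing A m) :
    stdTau A m x ∈ bo r ↔ QuadAlg.tau (MvPolynomial (Fin m) A) (fun i : Fin m => X i) r ∉ x.asIdeal :=
  Iff.rfl

theorem tau_mem_V (x : Spec (CommRingCat.of (stdRing A m))) : stdTau A m x ∈ V A m ↔ x ∈ V A m := by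
  change stdProj A m (stdTau A m x) ∈ punct m A ↔ stdProj A m x ∈ punct m A
  rw [← Scheme.Hom.comp_apply, stdTau_stdProj]

theorem tau_U₀ : (U₁ A m : Set (Spec (CommRingCat.of (stdRing A m)))) = stdTau A m ⁻¹' (U₀ A m : Set _) := by
  ext x
  change (x ∈ bo (1 - sc A m) ∨ x ∈ V A m) ↔ (stdTau A m x ∈ bo (sc A m) ∨ stdTau A m x ∈ V A m)
  rw [tau_mem_V, tau_mem_bo, QuadAlg.tau_s]
  exact Iff.rfl

theorem tau_U₁ : (U₀ A m : Set (Spec (CommRingCat.of (stdRing A m)))) = stdTau A m ⁻¹' (U₁ A m : Set _) := by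
  ext x
  change (x ∈ bo (sc A m) ∨ x ∈ V A m) ↔ (stdTau A m x ∈ bo (1 - sc A m) ∨ stdTau A m x ∈ V A m)
  rw [tau_mem_V, tau_mem_bo, map_sub, map_one, QuadAlg.tau_s, sub_sub_cancel]
  exact Iff.rfl

/-- **The sign of the involution** on the standard quadric. -/
theorem HC_tau_eq_neg (M : Type) [AddCommGroup M] (n : ℕ)
    (h0 : Subsingleton (HH (U₀ A m : Scheme.{u}) (EtCoh.const _ M) (n + 1)))
    (h1 : Subsingleton (HH (U₁ A m : Scheme.{u}) (EtCoh.const _ M) (n + 1)))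
    (hr : Function.Surjective (HC M (stdProj A m ∣_ punct m A) n))
    (y : HH (Spec (CommRingCat.of (stdRing A m))) (EtCoh.const _ M) (n + 1)) :
    HC M (stdTau A m) (n + 1) y = -y := by
  refine HC_eq_neg (stdProj A m) (stdTau A m) (stdTau_stdProj A m) (U₀ A m).ι (U₁ A m).ι (V A m).ι ?_ ?_ ?_ ?_
    (stdProj A m ∣_ punct m A) (punct m A).ι (morphismRestrict_ι _ _) M n h0 h1 hr y
  · rw [Scheme.Opens.range_ι, Scheme.Opens.range_ι, Scheme.Opens.range_ι]
    exact coe_inter A m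
  · rw [Scheme.Opens.range_ι, Scheme.Opens.range_ι]
    exact coe_union A m
  · rw [Scheme.Opens.range_ι, Scheme.Opens.range_ι]
    exact tau_U₀ A m
  · rw [Scheme.Opens.range_ι, Scheme.Opens.range_ι]
    exact tau_U₁ A m

end Groth.Agent.Vancyc.H881.StdOpens
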