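import Groth.Agent.Vancyc.H685.MVSwap
import Groth.Agent.Lefpen.H370.CohCmp

/-!
# The sign of an involution exchanging the two members of an open cover, constant coefficients

`X = U ∪ V`, `W = U ∩ V`, `g : X ⟶ X` over `B` with `g⁻¹ U = V`, `g⁻¹ V = U`, and `W ⟶ B` factors as `r ≫ i` with `i` a
monomorphism.  If `H^{n+1}(U, M) = H^{n+1}(V, M) = 0` and `H^n(P, M) → H^n(W, M)` is surjective then `g` acts as `-1` on
`H^{n+1}(X, M)`.
-/

set_option autoImplicit false
set_option backward.isDefEq.respectTransparency false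
set_option backward.isDefEq.respectTransparency.types false
open CategoryTheory CategoryTheory.Limits AlgebraicGeometry Opposite CategoryTheory.Abelian
universe u

namespace Groth.Agent.Vancyc.H881.SwapHC

open Groth.Agent.Etcore.PullCoh Groth.Agent.Etcore.HpullCalc Groth.Agent.Etcore.EtInst
  Groth.Agent.Etcore.HC Groth.Agent.Lefpen.H370.CohCmp Groth.Agent.Vancyc.H685.MVSwap
open scoped Groth.Agent.Etcore.EtInst

variable {X U V W B P : Scheme.{u}}

theorem subsingleton_pull_pull (j : U ⟶ X) (t : X ⟶ B) (M : Type) [AddCommGroup M] (n : ℕ)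
    (h : Subsingleton (HH U (EtCoh.const U M) n)) :
    Subsingleton (HH U ((EtCoh.pull j).obj ((EtCoh.pull t).obj (EtCoh.const B M))) n) := by
  have hb := HHmap_bijective ((EtCoh.pull j).map (EtCore.pullConst t M).hom ≫ (EtCore.pullConst j M).hom) n
  exact (Equiv.ofBijective _ hb).subsingleton

theorem HC_eq_neg (t : X ⟶ B) (g : X ⟶ X) (hgt : g ≫ t = t)
    (j : U ⟶ X) [IsOpenImmersion j] (k : V ⟶ X) [IsOpenImmersion k] (w : W ⟶ X) [IsOpenImmersion w]
    (hjk : Set.range w = Set.range j ∩ Set.range k) (hcov : Set.range j ∪ Set.range k = Set.univ)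
    (hgj : Set.range k = g ⁻¹' Set.range j) (hgk : Set.range j = g ⁻¹' Set.range k)
    (r : W ⟶ P) (i : P ⟶ B) [Mono i] (hri : r ≫ i = w ≫ t)
    (M : Type) [AddCommGroup M] (n : ℕ)
    (hU : Subsingleton (HH U (EtCoh.const U M) (n + 1)))
    (hV : Subsingleton (HH V (EtCoh.const V M) (n + 1)))
    (hr : Function.Surjective (HC M r n))
    (y : HH X (EtCoh.const X M) (n + 1)) : HC M g (n + 1) y = -y := by
  have hw : Set.range w = g ⁻¹' Set.range w := range_w g j k w hjk hgj hgk
  let gW : W ⟶ W := IsOpenImmersion.lift w (w ≫ g) (by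
    rintro _ ⟨x, rfl⟩
    have h1 : w x ∈ Set.range w := ⟨x, rfl⟩
    rw [hw] at h1
    exact h1)
  have hgW : gW ≫ w = w ≫ g := IsOpenImmersion.lift_fac _ _ _
  have hgWt : gW ≫ w ≫ t = w ≫ t := by
    rw [← Category.assoc, hgW, Category.assoc, hgt]
  have hgr : gW ≫ r = r := by
    rw [← cancel_mono i, Category.assoc, hri, hgWt]
  have htriv : ∀ x : HH W ((EtCoh.pull (w ≫ t)).obj (EtCoh.const B M)) n,
      hpVia gW (w ≫ t) (w ≫ t) hgWt (EtCoh.const B M) n x = x := by
    intro x
    apply (cst (w ≫ t) M n).injective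
    rw [cst_hpVia]
    obtain ⟨z, hz⟩ := hr (cst (w ≫ t) M n x)
    rw [← hz, ← HC_comp, hgr]
  obtain ⟨y', rfl⟩ := (cst t M (n + 1)).surjective y
  rw [← cst_hpVia g t t hgt M (n + 1) y',
    hpVia_eq_neg t g hgt j k w hjk hcov hgj hgk gW hgW (EtCoh.const B M) n
      (subsingleton_pull_pull j t M (n + 1) hU) (subsingleton_pull_pull k t M (n + 1) hV) hgWt htriv y',
    map_neg]

end Groth.Agent.Vancyc.H881.SwapHC
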